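import Cfsg.Agent.Lib.SylowCounting.Intersection
import Cfsg.Agent.Lib.SylowCounting.Embedding
import Cfsg.Agent.Lib.SylowCounting.Tools
import Mathlib.Data.ZMod.Basic

/-!
Simple groups of order 360: the action on the ten Sylow 3-subgroups is determined.
-/

namespace Cfsg.Agent.Lib.Classification.A6

set_option maxHeartbeats 400000

open Cfsg.Agent.Lib.SylowCounting

abbrev V := ZMod 3 × ZMod 3

def rot (i : V) : V := (-i.2, i.1)

def e₁ : V := (1, 0)
def d₁ : V := (1, 1)

def addv (c : V) : Option V → Option V := Option.map (fun i => i + c)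

def tVal (k : ℕ) (u v i : V) : V :=
  if i = e₁ then rot^[k * 0] u else if i = rot^[1] e₁ then rot^[k * 1] u
  else if i = rot^[2] e₁ then rot^[k * 2] u else if i = rot^[3] e₁ then rot^[k * 3] u
  else if i = d₁ then rot^[k * 0] v else if i = rot^[1] d₁ then rot^[k * 1] v
  else if i = rot^[2] d₁ then rot^[k * 2] v else rot^[k * 3] v

def tMap (k : ℕ) (u v : V) : Option V → Option V
  | none => some 0
  | some i => if i = 0 then none else some (tVal k u v i)

def pts : List V := [(0, 0), (1, 0), (2, 0), (0, 1), (1, 1), (2, 1), (0, 2), (1, 2), (2, 2)]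

def good (k : ℕ) (u v : V) : Bool :=
  pts.all fun p =>
    match tMap k u v (some p) with
    | none => true
    | some q =>
      let w := fun o => tMap k u v (addv (-q) (tMap k u v (addv p (tMap k u v o))))
      (List.range 4).any fun j =>
        pts.all fun i => decide (w (some i) = (w (some 0)).map fun c => rot^[j] i + c)

def T₀ : Option V → Option V := tMap 3 (1, 0) (2, 1)

set_option maxRecDepth 100000 in
theorem uniq : ∀ k ∈ [1, 3], ∀ u v : V, u ≠ 0 → v ≠ 0 → good k u v = true →
    ∃ j < 4, ∀ o, (tMap k u v o).map rot^[j] = T₀ o := by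
  decide +kernel

theorem pts_cases : ∀ i : V, i = 0 ∨ ∃ j < 4, i = rot^[j] e₁ ∨ i = rot^[j] d₁ := by
  decide +kernel

theorem mem_pts : ∀ i : V, i ∈ pts := by decide +kernel

theorem rot_four : ∀ i : V, rot^[4] i = i := by decide +kernel

theorem tMap_e (k : ℕ) (u v : V) : ∀ j < 4, tMap k u v (some (rot^[j] e₁)) = some (rot^[k * j] u) := by
  intro j hj
  interval_cases j <;> rfl

theorem tMap_d (k : ℕ) (u v : V) : ∀ j < 4, tMap k u v (some (rot^[j] d₁)) = some (rot^[k * j] v) := by
  intro j hj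
  interval_cases j <;> rfl

theorem e₁_cases : ∀ i : V, i ≠ 0 → e₁ = i ∨ e₁ = -i ∨ e₁ = rot i ∨ e₁ = -rot i ∨ e₁ = i + rot i ∨
    e₁ = -(i + rot i) ∨ e₁ = i + -rot i ∨ e₁ = -i + rot i := by
  decide +kernel

theorem basics : e₁ ≠ 0 ∧ d₁ ≠ 0 ∧ rot 0 = 0 := by decide +kernel

theorem k_cases {k : ℕ} (hk : k < 4) (h : 4 / Nat.gcd 4 k = 4) : k ∈ [1, 3] := by
  interval_cases k <;> revert h <;> decide

theorem dvd_four {n : ℕ} (h : n ∣ 4) : n ∣ 2 ∨ n = 4 := by
  have := Nat.le_of_dvd (by norm_num) h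
  interval_cases n <;> revert h <;> decide

theorem dvd_nine {n : ℕ} (h : n ∣ 9) : n ∣ 3 ∨ n = 9 := by
  have := Nat.le_of_dvd (by norm_num) h
  interval_cases n <;> revert h <;> decide

/-- An involutory permutation moving six points is odd. -/
theorem sign_neg {α : Type*} [Fintype α] [DecidableEq α] (σ : Equiv.Perm α) (h2 : σ ^ 2 = 1)
    (h6 : σ.support.card = 6) : Equiv.Perm.sign σ = -1 := by
  have hall : ∀ n ∈ σ.cycleType, n = 2 := fun n hn =>
    le_antisymm (Nat.le_of_dvd two_pos ((Equiv.Perm.dvd_of_mem_cycleType hn).trans (orderOf_dvd_of_pow_eq_one h2)))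
      (Equiv.Perm.two_le_of_mem_cycleType hn)
  have hrep := Multiset.eq_replicate_card.mpr hall
  have hs := Equiv.Perm.sum_cycleType σ
  rw [h6, hrep, Multiset.sum_replicate, smul_eq_mul] at hs
  rw [Equiv.Perm.sign_of_cycleType, hrep, Multiset.sum_replicate, Multiset.card_replicate,
    show Multiset.card σ.cycleType = 3 by omega]
  rfl

variable {G : Type*} [Group G] [Finite G] [IsSimpleGroup G]

theorem not_comm (h : Nat.card G = 360) : ¬ IsMulCommutative G :=
  not_comm_of_not_prime (by rw [h]; norm_num)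

theorem sylow3_card (h : Nat.card G = 360) [Fact (Nat.Prime 3)] (P : Sylow 3 G) :
    Nat.card (P : Subgroup G) = 9 := by
  rw [sylow_card (k := 2) (m := 40) (by rw [h]; norm_num) (by norm_num) P]; norm_num

theorem sylow3_comm (h : Nat.card G = 360) [Fact (Nat.Prime 3)] (P : Sylow 3 G) :
    (P : Subgroup G) ≤ Subgroup.centralizer ((P : Subgroup G) : Set G) := fun a ha => by
  rw [Subgroup.mem_centralizer_iff]
  intro b hb
  exact congrArg Subtype.val (IsPGroup.commutative_of_card_eq_prime_sq (p := 3)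
    (by rw [sylow3_card h P]; norm_num) (⟨b, hb⟩ : (P : Subgroup G)) ⟨a, ha⟩)

theorem index_ge (h : Nat.card G = 360) (H : Subgroup G) (hH : H ≠ ⊤) : 6 ≤ H.index := by
  by_contra hlt
  have hd := two_card_dvd_factorial (not_comm h) H hH
  rw [h] at hd
  have : H.index < 6 := by omega
  interval_cases H.index <;> revert hd <;> decide

theorem n3 (h : Nat.card G = 360) [Fact (Nat.Prime 3)] : Nat.card (Sylow 3 G) = 10 := by
  have hG : Nat.card G = 3 ^ 2 * 40 := by rw [h]; norm_num
  have hc := sylow_count_candidates hG (by norm_num) (by norm_num) (by norm_num)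
  rw [show candidates 3 40 = {4, 10, 40} by decide, Finset.mem_insert, Finset.mem_insert,
    Finset.mem_singleton] at hc
  obtain ⟨P⟩ : Nonempty (Sylow 3 G) := inferInstance
  have hidx : Nat.card (Sylow 3 G) = (Subgroup.normalizer ((P : Subgroup G) : Set G)).index := by
    rw [P.card_eq_index_normalizer, P.coe_coe]
  rcases hc with hc | hc | hc
  · exfalso
    have := index_ge h (Subgroup.normalizer ((P : Subgroup G) : Set G)) fun e => by
      rw [hidx, e, Subgroup.index_top] at hc; omega
    omega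
  · exact hc
  · exfalso
    refine not_normalizer_le_centralizer (not_comm h) P (by rw [h]; norm_num) ?_
    have h9 : Nat.card (Subgroup.normalizer ((P : Subgroup G) : Set G)) = 9 := by
      have := (Subgroup.normalizer ((P : Subgroup G) : Set G)).card_mul_index
      rw [← hidx, hc, h] at this
      omega
    have he : (P : Subgroup G) = Subgroup.normalizer ((P : Subgroup G) : Set G) :=
      Subgroup.eq_of_le_of_card_ge Subgroup.le_normalizer (by rw [h9, sylow3_card h P])
    rw [← he]
    exact sylow3_comm h P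

theorem ti (h : Nat.card G = 360) [Fact (Nat.Prime 3)] {P Q : Sylow 3 G} (hPQ : P ≠ Q) {x : G}
    (hxP : x ∈ (P : Subgroup G)) (hxQ : x ∈ (Q : Subgroup G)) : x = 1 := by
  by_contra hx
  set H := Subgroup.centralizer ({x} : Set G) with hHdef
  have hle : ∀ R : Sylow 3 G, x ∈ (R : Subgroup G) → (R : Subgroup G) ≤ H := fun R hR =>
    (sylow3_comm h R).trans (Subgroup.centralizer_le (Set.singleton_subset_iff.mpr hR))
  have hPH := hle P hxP
  have hQH := hle Q hxQ
  have hHt : H ≠ ⊤ := fun e => by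
    have hmem : x ∈ Subgroup.center G := Subgroup.mem_center_iff.mpr fun g => by
      have := (e ▸ Subgroup.mem_top g : g ∈ H)
      exact (Subgroup.mem_centralizer_singleton_iff.mp this)
    rcases IsSimpleGroup.eq_bot_or_eq_top_of_normal (Subgroup.center G) inferInstance with hb | ht
    · exact hx (Subgroup.mem_bot.mp (hb ▸ hmem))
    · exact not_comm h ⟨⟨fun a b => (Subgroup.mem_center_iff.mp (ht ▸ Subgroup.mem_top b) a)⟩⟩
  -- inside `H`
  let P' : Sylow 3 H := P.subtype hPH
  let Q' : Sylow 3 H := Q.subtype hQH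
  have hne : P' ≠ Q' := fun e => hPQ (Sylow.subtype_injective e)
  have hcne : Nat.card (Sylow 3 H) ≠ 1 := fun e => hne ((Nat.card_eq_one_iff_unique.mp e).1.elim P' Q')
  have hP' : Nat.card (P' : Subgroup H) = 9 := by
    rw [← sylow3_card h P]
    exact Nat.card_congr (Subgroup.subgroupOfEquivOfLe hPH).toEquiv
  have hd := P'.card_dvd_index
  have hmul := (P' : Subgroup H).card_mul_index
  rw [hP'] at hmul
  have hmod : Nat.card (Sylow 3 H) % 3 = 1 := sylow_count_mod 3
  have hH36 : Nat.card H = 36 ∧ Nat.card (Sylow 3 H) = 4 := by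
    have hi := index_ge h H hHt
    have hm := H.card_mul_index
    rw [h, ← hmul] at hm
    set a := (P' : Subgroup H).index
    set c := Nat.card (Sylow 3 H)
    have ha : a * H.index = 40 := by
      have : 9 * (a * H.index) = 9 * 40 := by rw [← mul_assoc, hm]
      omega
    have ha6 : a ≤ 6 := by nlinarith
    have hc6 : c ≤ a := Nat.le_of_dvd (Nat.pos_of_ne_zero fun e => by simp [e] at ha) hd
    have : c = 4 := by omega
    rw [this] at hd
    obtain ⟨r, hr⟩ := hd
    omega
  have hNH : Subgroup.normalizer ((P' : Subgroup H) : Set H) ≤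
      Subgroup.centralizer ((P' : Subgroup H) : Set H) := by
    have hidx : (Subgroup.normalizer ((P' : Subgroup H) : Set H)).index = 4 := by
      rw [← hH36.2, P'.card_eq_index_normalizer, P'.coe_coe]
    have h9 := (Subgroup.normalizer ((P' : Subgroup H) : Set H)).card_mul_index
    rw [hidx, hH36.1] at h9
    have he : (P' : Subgroup H) = Subgroup.normalizer ((P' : Subgroup H) : Set H) :=
      Subgroup.eq_of_le_of_card_ge Subgroup.le_normalizer (by rw [hP']; omega)
    rw [← he]
    intro a ha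
    rw [Subgroup.mem_centralizer_iff]
    intro b hb
    exact congrArg Subtype.val (IsPGroup.commutative_of_card_eq_prime_sq (p := 3)
      (by rw [hP']; norm_num) (⟨b, hb⟩ : (P' : Subgroup H)) ⟨a, ha⟩)
  obtain ⟨K₀, hn, hK₀⟩ : ∃ K₀ : Subgroup H, K₀.Normal ∧ Nat.card K₀ = 4 := by
    have hcompl := MonoidHom.ker_transferSylow_isComplement' P' hNH
    refine ⟨(MonoidHom.transferSylow P' hNH).ker, MonoidHom.normal_ker _, ?_⟩
    have := hcompl.card_mul
    rw [hP', hH36.1] at this
    omega
  set K : Subgroup G := K₀.map H.subtype with hKdef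
  have hK : Nat.card K = 4 := by rw [hKdef, Subgroup.card_map_of_injective H.subtype_injective, hK₀]
  have hHN : H ≤ Subgroup.normalizer (K : Set G) := by
    haveI := hn
    intro g hg
    have hmap : ∀ g' : H, ∀ y ∈ K, (g' : G) * y * (g' : G)⁻¹ ∈ K := by
      intro g' y hy
      obtain ⟨z, hz, rfl⟩ := Subgroup.mem_map.mp hy
      exact Subgroup.mem_map.mpr ⟨g' * z * g'⁻¹, hn.conj_mem z hz g', by simp⟩
    rw [Subgroup.mem_set_normalizer_iff]
    intro y
    refine ⟨hmap ⟨g, hg⟩ y, fun hy => ?_⟩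
    have := hmap (⟨g, hg⟩ : H)⁻¹ _ hy
    simpa [mul_assoc] using this
  haveI : Fact (Nat.Prime 2) := ⟨Nat.prime_two⟩
  obtain ⟨T, hT⟩ := (IsPGroup.of_card (n := 2) (by rw [hK]; rfl) : IsPGroup 2 K).exists_le_sylow
  have hT8 : Nat.card (T : Subgroup G) = 8 := by
    rw [sylow_card (k := 3) (m := 45) (by rw [h]; norm_num) (by norm_num) T]; norm_num
  have hTN : (T : Subgroup G) ≤ Subgroup.normalizer (K : Set G) := by
    have hi : (K.subgroupOf (T : Subgroup G)).index = 2 := by
      have := (K.subgroupOf (T : Subgroup G)).card_mul_index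
      rw [Nat.card_congr (Subgroup.subgroupOfEquivOfLe hT).toEquiv, hK, hT8] at this
      omega
    exact (Subgroup.normal_subgroupOf_iff_le_normalizer hT).mp (Subgroup.normal_of_index_eq_two hi)
  have h72 : 72 ∣ Nat.card (Subgroup.normalizer (K : Set G)) := by
    have a1 := Subgroup.card_dvd_of_le hHN
    have a2 := Subgroup.card_dvd_of_le hTN
    rw [hH36.1] at a1
    rw [hT8] at a2
    exact (Nat.Coprime.mul_dvd_of_dvd_of_dvd (by norm_num : Nat.Coprime 9 8)
      ((by norm_num : 9 ∣ 36).trans a1) a2)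
  have htop : Subgroup.normalizer (K : Set G) = ⊤ := by
    by_contra hne
    have := index_ge h _ hne
    have hm := (Subgroup.normalizer (K : Set G)).card_mul_index
    obtain ⟨r, hr⟩ := h72
    rw [h, hr] at hm
    have : r * (Subgroup.normalizer (K : Set G)).index = 5 := by
      rw [mul_assoc] at hm; omega
    have hr0 : r ≠ 0 := fun e => by simp [e] at this
    nlinarith [Nat.pos_of_ne_zero hr0]
  rcases IsSimpleGroup.eq_bot_or_eq_top_of_normal K (Subgroup.normalizer_eq_top_iff.mp htop) with hb | ht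
  · rw [hb, Subgroup.card_bot] at hK; omega
  · rw [ht, Subgroup.card_top, h] at hK; omega

theorem mem_of_smul_eq (h : Nat.card G = 360) [Fact (Nat.Prime 3)] {P Q : Sylow 3 G} {x : G}
    (hxP : x ∈ (P : Subgroup G)) (hfix : x • Q = Q) (hPQ : Q ≠ P) : x = 1 := by
  obtain ⟨k, hk⟩ := (IsPGroup.iff_orderOf.mp P.isPGroup') ⟨x, hxP⟩
  rw [← Subgroup.orderOf_coe] at hk
  exact ti h hPQ.symm hxP (mem_sylow_of_orderOf Q (Sylow.smul_eq_iff_mem_normalizer.mp hfix) hk)

/-- A simple group of order 360 is a fixed group of permutations of ten points. -/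
theorem exists_embedding (h : Nat.card G = 360) :
    ∃ f : G →* Equiv.Perm (Option V), Function.Injective f ∧ f.range = Subgroup.closure
      {σ | (∀ o, σ o = addv e₁ o) ∨ (∀ o, σ o = o.map rot) ∨ ∀ o, σ o = T₀ o} := by
  classical
  haveI : Fact (Nat.Prime 3) := ⟨Nat.prime_three⟩
  have hG := not_comm h
  have hn := n3 h
  obtain ⟨P⟩ : Nonempty (Sylow 3 G) := inferInstance
  obtain ⟨Q₀, hQ₀⟩ : ∃ Q₀ : Sylow 3 G, Q₀ ≠ P := by
    by_contra hc
    push Not at hc
    haveI : Subsingleton (Sylow 3 G) := ⟨fun a b => (hc a).trans (hc b).symm⟩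
    rw [Nat.card_unique] at hn
    omega
  have hP9 := sylow3_card h P
  have hPfix : ∀ z ∈ (P : Subgroup G), z • P = P := fun z hz =>
    Sylow.smul_eq_iff_mem_normalizer.mpr (Subgroup.le_normalizer hz)
  -- `P` is regular on the other nine
  let ρ : ↥(P : Subgroup G) → {Q : Sylow 3 G // Q ≠ P} := fun z =>
    ⟨(z : G) • Q₀, fun e => hQ₀ (smul_left_cancel _ (e.trans (hPfix z z.2).symm))⟩
  have hρ : Function.Bijective ρ := by
    refine (Nat.bijective_iff_injective_and_card ρ).mpr ⟨fun a b hab => ?_, ?_⟩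
    · have e := congrArg Subtype.val hab
      have : ((b : G)⁻¹ * a) • Q₀ = Q₀ := by
        rw [mul_smul]; exact inv_smul_eq_iff.mpr e
      have := mem_of_smul_eq h ((P : Subgroup G).mul_mem ((P : Subgroup G).inv_mem b.2) a.2) this hQ₀
      exact Subtype.ext (inv_mul_eq_one.mp this).symm
    · have := Nat.card_congr (Equiv.optionSubtypeNe P)
      rw [Finite.card_option, hn] at this
      rw [hP9]; omega
  set C := MulAction.stabilizer G P ⊓ MulAction.stabilizer G Q₀ with hC
  have hCP : ∀ d ∈ C, ∀ z ∈ (P : Subgroup G), d * z * d⁻¹ ∈ (P : Subgroup G) := fun d hd z hz =>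
    (Subgroup.mem_set_normalizer_iff.mp (Sylow.smul_eq_iff_mem_normalizer.mp hd.1) z).mp hz
  have hCact : ∀ d ∈ C, ∀ z : G, d • z • Q₀ = (d * z * d⁻¹) • Q₀ := fun d hd z => by
    have : d⁻¹ • Q₀ = Q₀ := inv_smul_eq_iff.mpr hd.2.symm
    rw [mul_smul, mul_smul, this]
  set φ := MulAction.toPermHom G (Sylow 3 G) with hφ
  have hφinj : Function.Injective φ := by
    rw [← MonoidHom.ker_eq_bot_iff]
    refine (IsSimpleGroup.eq_bot_or_eq_top_of_normal _ φ.normal_ker).resolve_right fun e => ?_
    obtain ⟨g, hg⟩ := MulAction.exists_smul_eq G P Q₀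
    refine hQ₀ (hg.symm.trans ?_)
    exact congrArg (fun σ : Equiv.Perm (Sylow 3 G) => σ P) (MonoidHom.mem_ker.mp (e.ge (Subgroup.mem_top g)))
  have hfaith : ∀ d ∈ C, (∀ z ∈ (P : Subgroup G), d * z * d⁻¹ = z) → d = 1 := by
    intro d hd hz
    apply hφinj
    rw [map_one]
    refine Equiv.ext fun Q => ?_
    show d • Q = Q
    by_cases hQ : Q = P
    · rw [hQ]; exact hd.1
    · obtain ⟨z, hzQ⟩ := hρ.2 ⟨Q, hQ⟩
      have e : (z : G) • Q₀ = Q := congrArg Subtype.val hzQ
      rw [← e]
      show d • (z : G) • Q₀ = (z : G) • Q₀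
      rw [hCact d hd, hz z z.2]
  have hC4 : Nat.card C = 4 := by
    have hN : Nat.card (MulAction.stabilizer G P) = 36 := by
      have h1 := (MulAction.stabilizer G P).card_mul_index
      rw [MulAction.index_stabilizer_of_transitive G P, hn, h] at h1
      omega
    set N := MulAction.stabilizer G P
    have h1 := (MulAction.stabilizer N Q₀).card_mul_index
    rw [MulAction.index_stabilizer, hN] at h1
    have h2 : MulAction.orbit N Q₀ = {Q | Q ≠ P} := by
      ext Q
      constructor
      · rintro ⟨g, rfl⟩ he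
        exact hQ₀ (smul_left_cancel (g : G) (Eq.trans he (MulAction.mem_stabilizer_iff.mp g.2).symm))
      · intro hQ
        obtain ⟨z, hz⟩ := hρ.2 ⟨Q, hQ⟩
        exact ⟨⟨(z : G), hPfix z z.2⟩, congrArg Subtype.val hz⟩
    have h3 : ({Q | Q ≠ P} : Set (Sylow 3 G)).ncard = 9 := by
      rw [show ({Q | Q ≠ P} : Set (Sylow 3 G)) = {P}ᶜ from rfl, Set.ncard_compl, Set.ncard_singleton, hn]
    rw [h2, h3] at h1
    have h4 : Nat.card (MulAction.stabilizer N Q₀) = Nat.card C :=
      Nat.card_congr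
        { toFun := fun c => ⟨(c.1 : G), c.1.2, c.2⟩
          invFun := fun c => ⟨⟨c.1, c.2.1⟩, c.2.2⟩
          left_inv := fun c => rfl
          right_inv := fun c => rfl }
    omega
  -- involutions of `C` invert `P`
  have hfree : ∀ d ∈ C, d ≠ 1 → d ^ 2 = 1 → ∀ z ∈ (P : Subgroup G), d * z * d⁻¹ = z → z = 1 := by
    intro d hd hd1 hd2 z hz hfix
    by_contra hz1
    set A : Subgroup G := (P : Subgroup G) ⊓ Subgroup.centralizer ({d} : Set G) with hA
    have memA : ∀ w, w ∈ A ↔ w ∈ (P : Subgroup G) ∧ d * w * d⁻¹ = w := fun w => by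
      rw [hA, Subgroup.mem_inf, Subgroup.mem_centralizer_singleton_iff, mul_inv_eq_iff_eq_mul]
      exact and_congr_right fun _ => ⟨Eq.symm, Eq.symm⟩
    have hzA : z ∈ A := (memA z).mpr ⟨hz, hfix⟩
    have hA3 : Nat.card A = 3 := by
      have hdv : Nat.card A ∣ 9 := by rw [← hP9]; exact Subgroup.card_dvd_of_le inf_le_left
      have h1 : Nat.card A ≠ 1 := fun e => by
        rw [Subgroup.card_eq_one] at e
        exact hz1 (Subgroup.mem_bot.mp (e ▸ hzA))
      have h9 : Nat.card A ≠ 9 := fun e => by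
        have heq : A = (P : Subgroup G) := Subgroup.eq_of_le_of_card_ge inf_le_left (by rw [hP9, e])
        exact hd1 (hfaith d hd fun w hw => ((memA w).mp (heq ▸ hw)).2)
      have := Nat.le_of_dvd (by norm_num) hdv
      interval_cases Nat.card A <;> first | rfl | omega
    have hfixcard : {Q : Sylow 3 G | d • Q = Q}.ncard = 4 := by
      have hset : {Q : Sylow 3 G | d • Q = Q} = insert P ((fun w : G => w • Q₀) '' (A : Set G)) := by
        ext Q
        constructor
        · intro hQ
          by_cases hQP : Q = P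
          · exact Or.inl hQP
          · obtain ⟨w, hw⟩ := hρ.2 ⟨Q, hQP⟩
            refine Or.inr ⟨w, (memA _).mpr ⟨w.2, ?_⟩, congrArg Subtype.val hw⟩
            have e : (w : G) • Q₀ = Q := congrArg Subtype.val hw
            change d • Q = Q at hQ
            rw [← e] at hQ
            change d • (w : G) • Q₀ = (w : G) • Q₀ at hQ
            rw [hCact d hd] at hQ
            have := hρ.1 (a₁ := ⟨d * w * d⁻¹, hCP d hd w w.2⟩) (a₂ := w) (Subtype.ext hQ)
            exact congrArg Subtype.val this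
        · rintro (rfl | ⟨w, hw, rfl⟩)
          · exact hd.1
          · show d • w • Q₀ = w • Q₀
            rw [hCact d hd, ((memA w).mp hw).2]
      rw [hset, Set.ncard_insert_of_notMem, Set.InjOn.ncard_image, ← Nat.card_coe_set_eq]
      · exact congrArg (· + 1) hA3
      · intro a ha b hb hab
        exact congrArg Subtype.val (hρ.1 (a₁ := ⟨a, ((memA a).mp ha).1⟩) (a₂ := ⟨b, ((memA b).mp hb).1⟩)
          (Subtype.ext hab))
      · rintro ⟨w, hw, e⟩
        exact hQ₀ (smul_left_cancel w (Eq.trans e (hPfix w ((memA w).mp hw).1).symm))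
    haveI : Fintype (Sylow 3 G) := Fintype.ofFinite _
    have hsupp : (φ d).support.card = 6 := by
      have e : ((φ d).support : Set (Sylow 3 G)) = {Q : Sylow 3 G | d • Q = Q}ᶜ := by
        ext Q; simp [hφ]
      have := congrArg Set.ncard e
      rw [Set.ncard_coe_finset, Set.ncard_compl, hfixcard, hn] at this
      exact this
    have h1 := sign_neg (φ d) (by rw [← map_pow, hd2, map_one]) hsupp
    have h2 := hom_zmod_trivial hG (Equiv.Perm.sign.comp φ) d
    rw [MonoidHom.comp_apply, h1] at h2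
    exact absurd h2 (by decide)
  have hinvol : ∀ d ∈ C, d ≠ 1 → d ^ 2 = 1 → ∀ z ∈ (P : Subgroup G), d * z * d⁻¹ = z⁻¹ := by
    intro d hd hd1 hd2 z hz
    have hcomm : ∀ a ∈ (P : Subgroup G), ∀ b ∈ (P : Subgroup G), a * b = b * a := fun a ha b hb =>
      (Subgroup.mem_centralizer_iff.mp (sylow3_comm h P hb) a ha)
    have hdd : d * d = 1 := by rw [← pow_two]; exact hd2
    have hdi : d⁻¹ = d := inv_eq_of_mul_eq_one_right hdd
    have hw := hCP d hd z hz
    have e : d * (z * (d * z * d⁻¹)) * d⁻¹ = z * (d * z * d⁻¹) := by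
      rw [hcomm z hz _ hw]
      calc d * (d * z * d⁻¹ * z) * d⁻¹ = d * d * z * (d⁻¹ * z * d⁻¹) := by group
        _ = z * (d * z * d⁻¹) := by rw [hdd, one_mul, hdi]
        _ = d * z * d⁻¹ * z := hcomm z hz _ hw
    exact eq_inv_of_mul_eq_one_right (hfree d hd hd1 hd2 _ ((P : Subgroup G).mul_mem hz hw) e)
  -- `C` is cyclic
  obtain ⟨y, hy, hy4⟩ : ∃ y ∈ C, orderOf y = 4 := by
    by_contra hno
    push Not at hno
    have hsq : ∀ d ∈ C, d ^ 2 = 1 := by
      intro d hd
      have hdv := C.orderOf_dvd_natCard hd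
      rw [hC4] at hdv
      exact orderOf_dvd_iff_pow_eq_one.mp ((dvd_four hdv).resolve_right (hno d hd))
    have huniq : ∀ a ∈ C, a ≠ 1 → ∀ b ∈ C, b ≠ 1 → a = b := by
      intro a ha ha1 b hb hb1
      have := hfaith (b⁻¹ * a) (C.mul_mem (C.inv_mem hb) ha) fun z hz => by
        calc b⁻¹ * a * z * (b⁻¹ * a)⁻¹ = b⁻¹ * (a * z * a⁻¹) * b := by group
          _ = b⁻¹ * z⁻¹ * b := by rw [hinvol a ha ha1 (hsq a ha) z hz]
          _ = b⁻¹ * (b * z * b⁻¹) * b := by rw [hinvol b hb hb1 (hsq b hb) z hz]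
          _ = z := by group
      exact (inv_mul_eq_one.mp this).symm
    have hsub : ∀ a b c : C, a = b ∨ a = c ∨ b = c := by
      intro a b c
      by_contra hc
      simp only [not_or] at hc
      by_cases ha : (a : G) = 1
      · have hb : (b : G) ≠ 1 := fun e => hc.1 (Subtype.ext (ha.trans e.symm))
        have hc' : (c : G) ≠ 1 := fun e => hc.2.1 (Subtype.ext (ha.trans e.symm))
        exact hc.2.2 (Subtype.ext (huniq b b.2 hb c c.2 hc'))
      · by_cases hb : (b : G) = 1
        · have hc' : (c : G) ≠ 1 := fun e => hc.2.2 (Subtype.ext (hb.trans e.symm))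
          exact hc.2.1 (Subtype.ext (huniq a a.2 ha c c.2 hc'))
        · exact hc.1 (Subtype.ext (huniq a a.2 ha b b.2 hb))
    let eC : C ≃ Fin 4 := Finite.equivFinOfCardEq hC4
    rcases hsub (eC.symm 0) (eC.symm 1) (eC.symm 2) with e | e | e <;>
      exact absurd (eC.symm.injective e) (by decide)
  have hCy : ∀ d ∈ C, ∃ j < 4, d = y ^ j := by
    intro d hd
    have he : Subgroup.zpowers y = C :=
      Subgroup.eq_of_le_of_card_ge (Subgroup.zpowers_le.mpr hy) (by rw [Nat.card_zpowers, hy4, hC4])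
    rw [← he, mem_zpowers_iff_mem_range_orderOf] at hd
    obtain ⟨j, hj, e⟩ := Finset.mem_image.mp hd
    exact ⟨j, by rw [hy4] at hj; exact Finset.mem_range.mp hj, e.symm⟩
  have hy2 : (y ^ 2) ^ 2 = 1 ∧ y ^ 2 ≠ 1 := by
    refine ⟨?_, fun e => ?_⟩
    · rw [← pow_mul, show 2 * 2 = 4 from rfl, ← hy4]; exact pow_orderOf_eq_one y
    · have := orderOf_dvd_of_pow_eq_one e
      rw [hy4] at this
      exact absurd this (by norm_num)
  have hy2inv : ∀ z ∈ (P : Subgroup G), y ^ 2 * z * (y ^ 2)⁻¹ = z⁻¹ :=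
    hinvol _ (C.pow_mem hy 2) hy2.2 hy2.1
  -- coordinates in `P`
  obtain ⟨x, hxP, hx1⟩ : ∃ x ∈ (P : Subgroup G), x ≠ 1 := by
    by_contra hc
    push Not at hc
    rw [Subgroup.card_eq_one.mpr ((Subgroup.eq_bot_iff_forall _).mpr hc)] at hP9
    omega
  set x' := y * x * y⁻¹ with hx'
  have hx'P : x' ∈ (P : Subgroup G) := hCP y hy x hxP
  have hcube : ∀ z ∈ (P : Subgroup G), z ^ 3 = 1 := by
    -- `P` is not cyclic
    intro z hz
    have hdv := (P : Subgroup G).orderOf_dvd_natCard hz
    rw [hP9] at hdv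
    by_contra hz3
    have h9 : orderOf z = 9 :=
      (dvd_nine hdv).resolve_left fun e => hz3 (orderOf_dvd_iff_pow_eq_one.mp e)
    have he : Subgroup.zpowers z = (P : Subgroup G) :=
      Subgroup.eq_of_le_of_card_ge (Subgroup.zpowers_le.mpr hz) (by rw [Nat.card_zpowers, h9, hP9])
    have hzc := hCP y hy z hz
    rw [← he, mem_zpowers_iff_mem_range_orderOf] at hzc
    obtain ⟨n, hn9, hn'⟩ := Finset.mem_image.mp hzc
    rw [h9, Finset.mem_range] at hn9
    have e2 : z ^ (n * n) = z⁻¹ := by
      rw [← hy2inv z hz, pow_mul, hn', conj_pow, hn', pow_two]; group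
    have e3 : z ^ (n * n + 1) = 1 := by rw [pow_succ, e2, inv_mul_cancel]
    have := orderOf_dvd_of_pow_eq_one e3
    rw [h9] at this
    interval_cases n <;> omega
  let xp : V → G := fun i => x ^ i.1.val * x' ^ i.2.val
  have hcomm : Commute x x' := Subgroup.mem_centralizer_iff.mp (sylow3_comm h P hx'P) x hxP
  have pow_val : ∀ z ∈ (P : Subgroup G), ∀ a b : ZMod 3, z ^ (a + b).val = z ^ a.val * z ^ b.val :=
    fun z hz a b => by
      rw [← pow_add, ZMod.val_add]
      exact (pow_eq_pow_mod _ (hcube z hz)).symm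
  have xp_add : ∀ i j, xp (i + j) = xp i * xp j := fun i j => by
    show x ^ (i.1 + j.1).val * x' ^ (i.2 + j.2).val = _
    rw [pow_val x hxP, pow_val x' hx'P, mul_assoc, mul_assoc]
    congr 1
    rw [← mul_assoc, ← mul_assoc]
    congr 1
    exact (hcomm.pow_pow _ _).eq
  have xp_mem : ∀ i, xp i ∈ (P : Subgroup G) := fun i =>
    (P : Subgroup G).mul_mem ((P : Subgroup G).pow_mem hxP _) ((P : Subgroup G).pow_mem hx'P _)
  have xp_conj : ∀ i, y * xp i * y⁻¹ = xp (rot i) := fun i => by
    have e : y * x' * y⁻¹ = x⁻¹ := by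
      rw [← hy2inv x hxP, hx', pow_two]; group
    show y * (x ^ i.1.val * x' ^ i.2.val) * y⁻¹ = x ^ (-i.2).val * x' ^ i.1.val
    have e2 : x⁻¹ ^ i.2.val = x ^ (-i.2).val := by
      rw [inv_pow, inv_eq_iff_mul_eq_one, ← pow_val x hxP, add_neg_cancel, ZMod.val_zero, pow_zero]
    rw [show y * (x ^ i.1.val * x' ^ i.2.val) * y⁻¹ = (y * x ^ i.1.val * y⁻¹) * (y * x' ^ i.2.val * y⁻¹) by group,
      ← conj_pow, ← conj_pow, ← hx', e, e2]
    exact (hcomm.symm.pow_pow _ _).eq
  have xp_inj : ∀ i, xp i = 1 → i = 0 := by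
    have hxp0 : ∀ i, xp i = 1 → xp (rot i) = 1 := fun i hi => by rw [← xp_conj, hi, mul_one, mul_inv_cancel]
    intro i hi
    by_contra hi0
    have hneg : ∀ j, xp j = 1 → xp (-j) = 1 := fun j hj => by
      have := xp_add j (-j)
      rw [add_neg_cancel, hj, one_mul] at this
      rw [← this]; simp [xp]
    have hadd : ∀ j l, xp j = 1 → xp l = 1 → xp (j + l) = 1 := fun j l hj hl => by
      rw [xp_add, hj, hl, one_mul]
    have : xp e₁ = 1 := by
      have hr := hxp0 i hi
      rcases e₁_cases i hi0 with e | e | e | e | e | e | e | e <;> rw [e]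
      exacts [hi, hneg _ hi, hr, hneg _ hr, hadd _ _ hi hr, hneg _ (hadd _ _ hi hr),
        hadd _ _ hi (hneg _ hr), hadd _ _ (hneg _ hi) hr]
    exact hx1 (by simpa [xp, e₁, ZMod.val_one] using this)
  -- the ten points
  let e₀ : Option V → Sylow 3 G := fun o => o.elim P fun i => xp i • Q₀
  have hne : ∀ i, xp i • Q₀ ≠ P := fun i e => hQ₀ (smul_left_cancel _ (e.trans (hPfix _ (xp_mem i)).symm))
  have he₀ : Function.Bijective e₀ := by
    refine (Nat.bijective_iff_injective_and_card e₀).mpr ⟨?_, ?_⟩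
    · rintro (_ | i) (_ | j) he
      · rfl
      · exact absurd he.symm (hne j)
      · exact absurd he (hne i)
      · congr 1
        have : xp i = xp j := congrArg Subtype.val
          (hρ.1 (a₁ := ⟨xp i, xp_mem i⟩) (a₂ := ⟨xp j, xp_mem j⟩) (Subtype.ext he))
        refine sub_eq_zero.mp (xp_inj _ ?_)
        have h2 := xp_add (i - j) j
        rw [sub_add_cancel, this] at h2
        exact mul_eq_right.mp h2.symm
    · rw [hn, Nat.card_eq_fintype_card, Fintype.card_option, Fintype.card_prod, ZMod.card]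
  let e : Option V ≃ Sylow 3 G := Equiv.ofBijective e₀ he₀
  let f : G →* Equiv.Perm (Option V) :=
    { toFun := fun g => (e.trans (φ g)).trans e.symm
      map_one' := by ext o; simp
      map_mul' := fun g h => by ext o; simp }
  have fdef : ∀ g o, e (f g o) = g • e o := fun g o => by
    show e (e.symm (φ g (e o))) = _
    rw [e.apply_symm_apply]
    rfl
  have finj : Function.Injective f := fun g h hgh => hφinj (Equiv.ext fun Q => by
    have := congrArg (fun σ : Equiv.Perm (Option V) => e (σ (e.symm Q))) hgh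
    simp only [fdef, e.apply_symm_apply] at this
    exact this)
  have e_none : e none = P := rfl
  have e_some : ∀ i, e (some i) = xp i • Q₀ := fun i => rfl
  have e_zero : e (some 0) = Q₀ := by rw [e_some]; simp [xp]
  have hfxp : ∀ (c : V) o, f (xp c) o = addv c o := by
    intro c o
    apply e.injective
    rw [fdef]
    rcases o with _ | i
    · exact hPfix _ (xp_mem c)
    · show xp c • (xp i • Q₀) = xp (i + c) • Q₀
      rw [← mul_smul, add_comm i, xp_add]
  have hfy : ∀ o, f y o = o.map rot := by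
    intro o
    apply e.injective
    rw [fdef]
    rcases o with _ | i
    · exact hy.1
    · show y • (xp i • Q₀) = xp (rot i) • Q₀
      rw [hCact y hy, xp_conj]
  have hfyp : ∀ (n : ℕ) o, f (y ^ n) o = o.map rot^[n] := by
    intro n o
    induction n with
    | zero => simp
    | succ n ih =>
      rw [pow_succ', map_mul, Equiv.Perm.mul_apply, ih, hfy, Option.map_map, Function.iterate_succ']
  -- exchanging two points
  obtain ⟨g, hg⟩ := MulAction.exists_smul_eq G P Q₀
  obtain ⟨i₁, hi₁⟩ : ∃ i, g⁻¹ • P = xp i • Q₀ := by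
    obtain ⟨o, ho⟩ := e.surjective (g⁻¹ • P)
    rcases o with _ | i
    · exfalso
      apply hQ₀
      rw [← hg]
      exact (inv_smul_eq_iff.mp ho.symm).symm
    · exact ⟨i, ho.symm⟩
  set t := g * xp i₁ with ht
  have tP : t • P = Q₀ := by rw [ht, mul_smul, hPfix _ (xp_mem i₁), hg]
  have tQ : t • Q₀ = P := by rw [ht, mul_smul, ← hi₁, smul_inv_smul]
  obtain ⟨k, hk, hty⟩ := hCy (t * y * t⁻¹) (by
    refine ⟨?_, ?_⟩ <;> show (t * y * t⁻¹) • _ = _ <;> rw [mul_smul, mul_smul]
    · rw [inv_smul_eq_iff.mpr tQ.symm, show y • Q₀ = Q₀ from hy.2, tQ]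
    · rw [inv_smul_eq_iff.mpr tP.symm, show y • P = P from hy.1, tP])
  have hk13 : k ∈ [1, 3] := by
    have hord : orderOf (y ^ k) = 4 := by rw [← hty, ← hy4]; exact (MulAut.conj t).orderOf_eq y
    rw [orderOf_pow, hy4] at hord
    exact k_cases hk hord
  have ft0 : f t (some 0) = none := e.injective (by rw [fdef, e_zero, e_none, tQ])
  have ftn : f t none = some 0 := e.injective (by rw [fdef, e_zero, e_none, tP])
  have hmoves : ∀ i : V, i ≠ 0 → ∃ u : V, u ≠ 0 ∧ f t (some i) = some u := by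
    intro i hi
    rcases hu : f t (some i) with _ | u
    · exact absurd (Option.some.inj ((f t).injective (hu.trans ft0.symm))) hi
    · refine ⟨u, ?_, rfl⟩
      rintro rfl
      simpa using (f t).injective (hu.trans ftn.symm)
  obtain ⟨u, hu0, hu⟩ := hmoves e₁ basics.1
  obtain ⟨v, hv0, hv⟩ := hmoves d₁ basics.2.1
  have hmove : ∀ (n : ℕ) i w, f t (some i) = some w → f t (some (rot^[n] i)) = some (rot^[k * n] w) := by
    intro n i w hw
    have e1 : t * y ^ n = y ^ (k * n) * t := by
      rw [pow_mul, ← hty, conj_pow]; group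
    have e2 := congrArg (fun σ : Equiv.Perm (Option V) => σ (some i)) (congrArg f e1)
    simp only [map_mul, Equiv.Perm.mul_apply, hfyp, hw, Option.map_some] at e2
    exact e2
  have hft : ∀ o, f t o = tMap k u v o := by
    rintro (_ | i)
    · exact ftn
    rcases pts_cases i with rfl | ⟨j, hj, rfl | rfl⟩
    · exact ft0
    · rw [hmove j e₁ u hu, tMap_e k u v j hj]
    · rw [hmove j d₁ v hv, tMap_d k u v j hj]
  have hN : ∀ w ∈ MulAction.stabilizer G P, ∃ (c : V) (j : ℕ), j < 4 ∧ w = xp c * y ^ j := by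
    intro w hw
    obtain ⟨o, ho⟩ := e.surjective (w • Q₀)
    rcases o with _ | i
    · exact absurd (smul_left_cancel w (ho.symm.trans (MulAction.mem_stabilizer_iff.mp hw).symm)) hQ₀
    · have hc : (xp i)⁻¹ * w ∈ C := by
        refine ⟨?_, ?_⟩ <;> show ((xp i)⁻¹ * w) • _ = _ <;> rw [mul_smul]
        · rw [MulAction.mem_stabilizer_iff.mp hw, inv_smul_eq_iff]; exact (hPfix _ (xp_mem i)).symm
        · rw [← ho, e_some, inv_smul_smul]
      obtain ⟨j, hj', hj⟩ := hCy _ hc
      exact ⟨i, j, hj', by rw [← hj, mul_inv_cancel_left]⟩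
  have hgood : good k u v = true := by
    simp only [good, List.all_eq_true]
    intro p _
    cases hp : tMap k u v (some p) with
    | none => rfl
    | some q =>
      set w := t * xp (-q) * t * xp p * t with hw
      have hwo : ∀ o, f w o = tMap k u v (addv (-q) (tMap k u v (addv p (tMap k u v o)))) := fun o => by
        simp only [hw, map_mul, Equiv.Perm.mul_apply, hft, hfxp]
      have hwP : w ∈ MulAction.stabilizer G P := by
        rw [MulAction.mem_stabilizer_iff, ← e_none, ← fdef]
        congr 1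
        rw [hwo]
        show tMap k u v (addv (-q) (tMap k u v (some (0 + p)))) = none
        rw [zero_add, hp]
        simp [addv, tMap]
      obtain ⟨c, j, hj, hcj⟩ := hN w hwP
      have haff : ∀ i, f w (some i) = some (rot^[j] i + c) := fun i => by
        rw [hcj, map_mul, Equiv.Perm.mul_apply, hfyp, hfxp]; rfl
      simp only [List.any_eq_true, List.mem_range, List.all_eq_true, decide_eq_true_eq]
      refine ⟨j, hj, fun i _ => ?_⟩
      rw [← hwo, ← hwo, haff, haff]
      have : rot^[j] (0 : V) = 0 := Function.iterate_fixed basics.2.2 j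
      simp [this]
  obtain ⟨j, -, hT⟩ := uniq k hk13 u v hu0 hv0 hgood
  have hfT : ∀ o, f (y ^ j * t) o = T₀ o := fun o => by
    rw [map_mul, Equiv.Perm.mul_apply, hft, hfyp, hT]
  have hfx : ∀ o, f x o = addv e₁ o := fun o => by
    rw [← hfxp e₁]; simp [xp, e₁, ZMod.val_one]
  refine ⟨f, finj, le_antisymm ?_ ?_⟩
  · rintro _ ⟨w, rfl⟩
    set S := (Subgroup.closure
      {σ : Equiv.Perm (Option V) | (∀ o, σ o = addv e₁ o) ∨ (∀ o, σ o = o.map rot) ∨ ∀ o, σ o = T₀ o}).comap f
    show w ∈ S
    have hxS : x ∈ S := Subgroup.subset_closure (Or.inl hfx)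
    have hyS : y ∈ S := Subgroup.subset_closure (Or.inr (Or.inl hfy))
    have htS : t ∈ S := by
      have h0 : y ^ j * t ∈ S := Subgroup.subset_closure (Or.inr (Or.inr hfT))
      simpa using S.mul_mem (S.inv_mem (S.pow_mem hyS j)) h0
    have hxpS : ∀ c, xp c ∈ S := fun c =>
      S.mul_mem (S.pow_mem hxS _) (S.pow_mem (S.mul_mem (S.mul_mem hyS hxS) (S.inv_mem hyS)) _)
    have hNS : ∀ a ∈ MulAction.stabilizer G P, a ∈ S := fun a ha => by
      obtain ⟨c, l, -, rfl⟩ := hN a ha
      exact S.mul_mem (hxpS c) (S.pow_mem hyS l)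
    obtain ⟨o, ho⟩ := e.surjective (w • P)
    obtain ⟨a, ha, haP⟩ : ∃ a ∈ S, a • P = e o := by
      rcases o with _ | i
      · exact ⟨1, S.one_mem, one_smul _ _⟩
      · exact ⟨xp i * t, S.mul_mem (hxpS i) htS, by rw [mul_smul, tP]; rfl⟩
    have : a⁻¹ * w ∈ S := hNS _ (by
      rw [MulAction.mem_stabilizer_iff, mul_smul, ← ho, ← haP, inv_smul_smul])
    simpa using S.mul_mem ha this
  · rw [Subgroup.closure_le]
    rintro σ (hσ | hσ | hσ)
    · exact ⟨x, Equiv.ext fun o => (hfx o).trans (hσ o).symm⟩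
    · exact ⟨y, Equiv.ext fun o => (hfy o).trans (hσ o).symm⟩
    · exact ⟨y ^ j * t, Equiv.ext fun o => (hfT o).trans (hσ o).symm⟩

end Cfsg.Agent.Lib.Classification.A6
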