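import Cfsg.Prelude.Def_Local

set_option autoImplicit false

namespace Cfsg.Agent.Lib.Classification

variable {G H : Type*} [Group G] [Group H]

theorem map_center_mulEquiv (e : G ≃* H) :
    (Subgroup.center G).map (e : G →* H) = Subgroup.center H := by
  ext x
  constructor
  · rintro ⟨z, hz, rfl⟩
    rw [Subgroup.mem_center_iff]
    intro y
    have := Subgroup.mem_center_iff.mp hz (e.symm y)
    simpa using congrArg e this
  · intro hx
    refine ⟨e.symm x, ?_, by simp⟩
    rw [SetLike.mem_coe, Subgroup.mem_center_iff]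
    intro y
    have := Subgroup.mem_center_iff.mp hx (e y)
    simpa using congrArg e.symm this

/-- Quasisimplicity is invariant under isomorphism. -/
theorem isQuasisimple_of_mulEquiv (e : G ≃* H) (h : Cfsg.IsQuasisimple G) :
    Cfsg.IsQuasisimple H := by
  obtain ⟨hp, hs⟩ := h
  haveI := hs
  exact ⟨Group.IsPerfect.ofSurjective (f := e.toMonoidHom) e.surjective,
    MulEquiv.isSimpleGroup
      (QuotientGroup.congr _ _ e (map_center_mulEquiv e)).symm⟩

theorem mem_map_conj_iff {A : Subgroup G} {g x : G} :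
    x ∈ A.map (MulAut.conj g).toMonoidHom ↔ g⁻¹ * x * g ∈ A := by
  constructor
  · rintro ⟨a, ha, rfl⟩
    simpa [mul_assoc] using ha
  · intro h
    exact ⟨_, h, by simp [mul_assoc]⟩

theorem mul_mem_map_conj {A : Subgroup G} {g a : G} (h : a ∈ A) :
    g * a * g⁻¹ ∈ A.map (MulAut.conj g).toMonoidHom :=
  ⟨a, h, by simp⟩

theorem card_map_conj (A : Subgroup G) (g : G) :
    Nat.card ↥(A.map (MulAut.conj g).toMonoidHom) = Nat.card ↥A :=
  (Subgroup.card_map_of_injective (MulAut.conj g).injective)

theorem map_conj_eq_iff_mem_normalizer [Finite G] {A : Subgroup G} {g : G} :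
    A.map (MulAut.conj g).toMonoidHom = A ↔ g ∈ Subgroup.normalizer (A : Set G) := by
  rw [Subgroup.mem_set_normalizer_iff]
  constructor
  · intro h x
    constructor
    · intro hx
      exact h ▸ mul_mem_map_conj (g := g) hx
    · intro hx
      have : g * x * g⁻¹ ∈ A.map (MulAut.conj g).toMonoidHom := h.symm ▸ hx
      have := mem_map_conj_iff.mp this
      simpa [mul_assoc] using this
  · intro h
    ext x
    rw [mem_map_conj_iff]
    refine (h (g⁻¹ * x * g)).trans ?_
    simp [mul_assoc]

theorem commutator_eq_bot_iff_commute {A B : Subgroup G} :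
    ⁅A, B⁆ = ⊥ ↔ ∀ a ∈ A, ∀ b ∈ B, a * b = b * a := by
  rw [Subgroup.commutator_eq_bot_iff_le_centralizer]
  constructor
  · intro h a ha b hb
    exact ((h ha) b hb).symm
  · intro h a ha b hb
    exact (h a ha b hb).symm

theorem commElem_mem_left {A : Subgroup G} {x y : G} (hx : x ∈ A)
    (hy : y ∈ Subgroup.normalizer (A : Set G)) : x * (y * x⁻¹ * y⁻¹) ∈ A :=
  A.mul_mem hx ((Subgroup.mem_set_normalizer_iff.mp hy _).mp (A.inv_mem hx))

end Cfsg.Agent.Lib.Classification
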