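import Mathlib
import Cfsg.Prelude.Def_Transfer

/-!
Elementary abelian 2-subgroups: adjoining a commuting involution, fixed points of involutions.
-/

set_option autoImplicit false

namespace Cfsg.Agent.Lib.Classification

variable {G : Type*} [Group G]

/-- Elements squaring to one are their own inverse. -/
theorem inv_eq_self_of_sq {a : G} (h : a ^ 2 = 1) : a⁻¹ = a :=
  inv_eq_of_mul_eq_one_left (by rw [← pow_two, h])

/-- A subgroup of exponent two is commutative. -/
theorem commute_of_sq_eq_one {A : Subgroup G} (h : ∀ a ∈ A, a ^ 2 = 1) :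
    ∀ a ∈ A, ∀ b ∈ A, a * b = b * a := by
  intro a ha b hb
  have := inv_eq_self_of_sq (h _ (A.mul_mem ha hb))
  rwa [mul_inv_rev, inv_eq_self_of_sq (h a ha), inv_eq_self_of_sq (h b hb), eq_comm] at this

theorem isElementaryAbelian_two_iff {A : Subgroup G} :
    Cfsg.IsElementaryAbelian 2 A ↔ ∀ a ∈ A, a ^ 2 = 1 := by
  refine ⟨fun h => h.2, fun h => ⟨⟨⟨fun a b => Subtype.ext ?_⟩⟩, h⟩⟩
  exact commute_of_sq_eq_one h a a.2 b b.2

theorem isKleinFour_subgroup_iff {U : Subgroup G} :
    IsKleinFour U ↔ Nat.card U = 4 ∧ ∀ u ∈ U, u ^ 2 = 1 := by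
  constructor
  · intro h
    refine ⟨h.card_four, fun u hu => ?_⟩
    have h2 := Monoid.pow_exponent_eq_one (⟨u, hu⟩ : U)
    rw [h.exponent_two] at h2
    exact congrArg Subtype.val h2
  · rintro ⟨h4, h2⟩
    refine ⟨h4, ?_⟩
    haveI : Finite U := Nat.finite_of_card_ne_zero (by omega)
    haveI : Nontrivial U := Finite.one_lt_card_iff_nontrivial.mp (by omega)
    exact Monoid.exponent_eq_prime_iff Nat.prime_two |>.mpr fun u hu =>
      orderOf_eq_prime (Subtype.ext (by simpa using h2 u u.2)) hu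

/-- `A ∪ x A` for an involution `x` centralizing `A`. -/
def adjoinSubgroup (A : Subgroup G) (x : G) (hx : x ^ 2 = 1) (hc : ∀ a ∈ A, x * a = a * x) :
    Subgroup G where
  carrier := {z | z ∈ A ∨ x * z ∈ A}
  one_mem' := Or.inl A.one_mem
  mul_mem' := by
    rintro a b (ha | ha) (hb | hb)
    · exact Or.inl (A.mul_mem ha hb)
    · refine Or.inr ?_
      have e : x * (a * b) = a * (x * b) := by rw [← mul_assoc, hc a ha, mul_assoc]
      rw [e]
      exact A.mul_mem ha hb
    · refine Or.inr ?_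
      rw [← mul_assoc]
      exact A.mul_mem ha hb
    · refine Or.inl ?_
      have hxx : x * x = 1 := by rw [← pow_two, hx]
      have e : a * b = (x * a) * (x * b) := by
        calc a * b = x * (x * a) * (x * (x * b)) := by
              simp only [← mul_assoc, hxx, one_mul, mul_assoc _ x x, mul_one]
          _ = (x * a) * x * (x * (x * b)) := by rw [hc _ ha]
          _ = (x * a) * (x * b) := by
              rw [mul_assoc (x * a) x (x * (x * b)), ← mul_assoc x x (x * b), hxx, one_mul]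
      rw [e]
      exact A.mul_mem ha hb
  inv_mem' := by
    rintro a (ha | ha)
    · exact Or.inl (A.inv_mem ha)
    · refine Or.inr ?_
      have e : x * a⁻¹ = (x * a)⁻¹ := by
        calc x * a⁻¹ = x * ((x * a)⁻¹ * x) := by group
          _ = x * (x * a)⁻¹ * x := by group
          _ = (x * a)⁻¹ * x * x := by rw [hc _ (A.inv_mem ha)]
          _ = (x * a)⁻¹ := by rw [mul_assoc, ← pow_two, hx, mul_one]
      rw [e]
      exact A.inv_mem ha

variable {A : Subgroup G} {x : G} {hx : x ^ 2 = 1} {hc : ∀ a ∈ A, x * a = a * x}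

theorem mem_adjoinSubgroup_iff {z : G} :
    z ∈ adjoinSubgroup A x hx hc ↔ z ∈ A ∨ x * z ∈ A := Iff.rfl

theorem le_adjoinSubgroup : A ≤ adjoinSubgroup A x hx hc := fun _ h => Or.inl h

theorem self_mem_adjoinSubgroup : x ∈ adjoinSubgroup A x hx hc :=
  Or.inr (by rw [← pow_two, hx]; exact A.one_mem)

theorem sq_eq_one_of_mem_adjoinSubgroup (hA : ∀ a ∈ A, a ^ 2 = 1) :
    ∀ z ∈ adjoinSubgroup A x hx hc, z ^ 2 = 1 := by
  rintro z (hz | hz)
  · exact hA z hz
  · have e : z = x * (x * z) := by rw [← mul_assoc, ← pow_two, hx, one_mul]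
    have hcm : Commute x (x * z) := hc _ hz
    rw [e, hcm.mul_pow, hx, hA _ hz, one_mul]

theorem card_adjoinSubgroup [Finite G] (hxA : x ∉ A) :
    Nat.card (adjoinSubgroup A x hx hc) = 2 * Nat.card A := by
  classical
  have hxx : x * x = 1 := by rw [← pow_two, hx]
  let f : A ⊕ A → adjoinSubgroup A x hx hc := Sum.elim
    (fun a => ⟨a, Or.inl a.2⟩)
    (fun a => ⟨x * a, Or.inr (by rw [← mul_assoc, hxx, one_mul]; exact a.2)⟩)
  have hf : Function.Bijective f := by
    constructor
    · rintro (a | a) (b | b) h <;> replace h := congrArg Subtype.val h <;>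
        simp only [f, Sum.elim_inl, Sum.elim_inr] at h
      · exact congrArg Sum.inl (Subtype.ext h)
      · exact absurd (show x ∈ A by
          have e : x = a * (b : G)⁻¹ := by rw [h]; group
          rw [e]; exact A.mul_mem a.2 (A.inv_mem b.2)) hxA
      · exact absurd (show x ∈ A by
          have e : x = b * (a : G)⁻¹ := by rw [← h]; group
          rw [e]; exact A.mul_mem b.2 (A.inv_mem a.2)) hxA
      · exact congrArg Sum.inr (Subtype.ext (mul_left_cancel h))
    · rintro ⟨z, hz | hz⟩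
      · exact ⟨Sum.inl ⟨z, hz⟩, rfl⟩
      · exact ⟨Sum.inr ⟨x * z, hz⟩, Subtype.ext (by simp [f, ← mul_assoc, hxx])⟩
  rw [← Nat.card_eq_of_bijective f hf, Nat.card_sum, two_mul]

/-- For an involution `x` acting on a finite commutative subgroup `A` of exponent two,
the centralized part has at least the square root of the order. -/
theorem card_le_sq_card_inf_centralizer [Finite G] {A : Subgroup G} {x : G}
    (hA : ∀ a ∈ A, a ^ 2 = 1) (hx : x ^ 2 = 1) (hN : ∀ a ∈ A, x * a * x⁻¹ ∈ A) :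
    Nat.card A ≤ Nat.card ↥(A ⊓ Subgroup.centralizer {x}) ^ 2 := by
  let f : A →* A :=
    { toFun := fun a => ⟨a * (x * a * x⁻¹), A.mul_mem a.2 (hN a a.2)⟩
      map_one' := by simp
      map_mul' := by
        intro a b
        apply Subtype.ext
        have h := commute_of_sq_eq_one hA (x * a * x⁻¹) (hN a a.2) b b.2
        calc (a : G) * b * (x * (a * b) * x⁻¹)
            = a * (b * (x * a * x⁻¹)) * (x * b * x⁻¹) := by group
          _ = a * (x * a * x⁻¹) * (b * (x * b * x⁻¹)) := by rw [← h]; group }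
  have hk : f.ker.map A.subtype ≤ A ⊓ Subgroup.centralizer {x} := by
    rintro _ ⟨a, ha, rfl⟩
    refine ⟨a.2, Subgroup.mem_centralizer_singleton_iff.mpr ?_⟩
    have h : (a : G) * (x * a * x⁻¹) = 1 := congrArg Subtype.val ha
    have h' : x * a * x⁻¹ = a := by
      exact (inv_eq_of_mul_eq_one_right h).symm.trans (inv_eq_self_of_sq (hA a a.2))
    calc (a : G) * x = x * a * x⁻¹ * x := by rw [h']
      _ = x * a := by group
  have hr : f.range.map A.subtype ≤ A ⊓ Subgroup.centralizer {x} := by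
    rintro _ ⟨_, ⟨a, rfl⟩, rfl⟩
    refine ⟨(f a).2, Subgroup.mem_centralizer_singleton_iff.mpr ?_⟩
    have hxx : x * x = 1 := by rw [← pow_two, hx]
    have h := commute_of_sq_eq_one hA (x * a * x⁻¹) (hN a a.2) a a.2
    show (a : G) * (x * a * x⁻¹) * x = x * ((a : G) * (x * a * x⁻¹))
    calc (a : G) * (x * a * x⁻¹) * x = (x * a * x⁻¹) * a * x := by rw [h]
      _ = x * a * x⁻¹ * a * x⁻¹ * (x * x) := by group
      _ = x * ((a : G) * (x⁻¹ * a * x⁻¹)) := by rw [hxx]; group
      _ = x * ((a : G) * (x * a * x⁻¹)) := by rw [inv_eq_self_of_sq hx]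
  have h1 := Subgroup.card_le_of_le hk
  have h2 := Subgroup.card_le_of_le hr
  rw [Subgroup.card_map_of_injective A.subtype_injective] at h1 h2
  have h3 : Nat.card f.ker * Nat.card f.range = Nat.card A := by
    rw [← Subgroup.index_ker, Subgroup.card_mul_index]
  rw [← h3, pow_two]
  exact Nat.mul_le_mul h1 h2

/-- Two commuting involutions acting on a nontrivial subgroup of exponent two have a common
nontrivial fixed point. -/
theorem exists_common_fixed [Finite G] {A : Subgroup G} {x y : G}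
    (hA : ∀ a ∈ A, a ^ 2 = 1) (hx : x ^ 2 = 1) (hy : y ^ 2 = 1) (hxy : x * y = y * x)
    (hNx : ∀ a ∈ A, x * a * x⁻¹ ∈ A) (hNy : ∀ a ∈ A, y * a * y⁻¹ ∈ A) (hA1 : A ≠ ⊥) :
    ∃ a ∈ A, a ≠ 1 ∧ x * a = a * x ∧ y * a = a * y := by
  have hfix : ∀ B : Subgroup G, B ≤ A → B ≠ ⊥ → ∀ g : G, g ^ 2 = 1 →
      (∀ a ∈ B, g * a * g⁻¹ ∈ B) → ∃ a ∈ B, a ≠ 1 ∧ g * a = a * g := by
    intro B hB hB1 g hg hgN
    have h := card_le_sq_card_inf_centralizer (fun a ha => hA a (hB ha)) hg hgN
    have : B ⊓ Subgroup.centralizer {g} ≠ ⊥ := by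
      intro e
      rw [e, Subgroup.card_bot, one_pow] at h
      exact hB1 (Subgroup.eq_bot_of_card_le _ h)
    rw [ne_eq, Subgroup.eq_bot_iff_forall] at this
    push Not at this
    obtain ⟨a, ⟨ha, hac⟩, ha1⟩ := this
    exact ⟨a, ha, ha1, (Subgroup.mem_centralizer_singleton_iff.mp hac).symm⟩
  obtain ⟨a, ha, ha1, hxa⟩ := hfix A le_rfl hA1 x hx hNx
  by_cases hya : y * a = a * y
  · exact ⟨a, ha, ha1, hxa, hya⟩
  -- otherwise `a * yay⁻¹` is fixed by both
  have hinva := inv_eq_self_of_sq (hA a ha)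
  have hcA := commute_of_sq_eq_one hA
  have hyy : y * y = 1 := by rw [← pow_two, hy]
  refine ⟨a * (y * a * y⁻¹), A.mul_mem ha (hNy a ha), ?_, ?_, ?_⟩
  · intro e
    apply hya
    have h' : y * a * y⁻¹ = a := (inv_eq_of_mul_eq_one_right e).symm.trans hinva
    calc y * a = y * a * y⁻¹ * y := by group
      _ = a * y := by rw [h']
  · calc x * (a * (y * a * y⁻¹)) = (x * a) * (y * a * y⁻¹) := by group
      _ = a * (x * y) * a * y⁻¹ := by rw [hxa]; group
      _ = a * (y * x) * a * y⁻¹ := by rw [hxy]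
      _ = a * y * (x * a) * y⁻¹ := by group
      _ = a * y * a * (x * y⁻¹) := by rw [hxa]; group
      _ = a * y * a * (y⁻¹ * x) := by rw [inv_eq_self_of_sq hy, hxy]
      _ = a * (y * a * y⁻¹) * x := by group
  · calc y * (a * (y * a * y⁻¹)) = (y * a * y⁻¹) * (y * y) * a * y⁻¹ := by group
      _ = (y * a * y⁻¹) * a * y⁻¹ := by rw [hyy, mul_one]
      _ = a * (y * a * y⁻¹) * y⁻¹ := by rw [hcA _ (hNy a ha) a ha]
      _ = a * (y * a * y⁻¹) * y := by rw [inv_eq_self_of_sq hy]

end Cfsg.Agent.Lib.Classification
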