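import Cfsg.Agent.Lib.Frobenius.UniqueSubgroup
import Cfsg.Agent.Lib.Classification.ElemAbTwo
import Cfsg.Prelude.Def_CaseTheorems
import Mathlib.GroupTheory.SpecificGroups.Dihedral

/-!
`p`-groups in which every abelian normal subgroup is cyclic.
-/

set_option autoImplicit false

namespace Cfsg.Agent.Lib.Classification

variable {P : Type*} [Group P]

/-- Recognition of dihedral groups. -/
theorem mulEquiv_dihedralGroup_of_generators [Finite P] {n : ℕ} [NeZero n] {c g : P}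
    (hc : orderOf c = n) (hg : g * c * g⁻¹ = c⁻¹) (hg2 : g ^ 2 = 1)
    (hgc : g ∉ Subgroup.zpowers c) (hcard : Nat.card P = 2 * n) :
    Nonempty (P ≃* DihedralGroup n) := by
  have hz : ∀ x : ℤ, g * c ^ x = c ^ (-x) * g := fun x => by
    rw [zpow_neg, ← inv_zpow, ← hg, conj_zpow]; group
  let f : DihedralGroup n → P := fun x => match x with
    | .r i => c ^ (i.val : ℤ)
    | .sr i => g * c ^ (i.val : ℤ)
  have hmod : ∀ {u v : ℤ}, ((u : ZMod n) = (v : ZMod n)) → c ^ u = c ^ v := by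
    intro u v h
    rw [← sub_eq_zero, ← Int.cast_sub, ZMod.intCast_zmod_eq_zero_iff_dvd, ← hc,
      orderOf_dvd_iff_zpow_eq_one, zpow_sub, mul_inv_eq_one] at h
    exact h
  have hmul : ∀ x y, f (x * y) = f x * f y := by
    rintro (i | i) (j | j) <;>
      simp only [f, DihedralGroup.r_mul_r, DihedralGroup.r_mul_sr, DihedralGroup.sr_mul_r,
        DihedralGroup.sr_mul_sr]
    · rw [← zpow_add]; exact hmod (by simp)
    · rw [← mul_assoc, ← neg_neg (i.val : ℤ), ← hz, mul_assoc, ← zpow_add]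
      congr 1
      exact hmod (by push_cast; rw [ZMod.natCast_val, ZMod.natCast_val, ZMod.natCast_val]; simp; ring)
    · rw [mul_assoc, ← zpow_add]; congr 1; exact hmod (by simp)
    · rw [hz i.val, mul_assoc, ← mul_assoc g g, ← sq, hg2, one_mul, ← zpow_add]
      exact hmod (by push_cast; rw [ZMod.natCast_val, ZMod.natCast_val, ZMod.natCast_val]; simp; ring)
  have hinj : Function.Injective f := by
    have hcv : ∀ {i j : ZMod n}, c ^ (i.val : ℤ) = c ^ (j.val : ℤ) → i = j := by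
      intro i j h
      rw [← mul_inv_eq_one, ← zpow_sub, ← orderOf_dvd_iff_zpow_eq_one, hc,
        ← ZMod.intCast_zmod_eq_zero_iff_dvd, Int.cast_sub, sub_eq_zero] at h
      simpa using h
    rintro (i | i) (j | j) h
    · rw [hcv h]
    · refine absurd ?_ hgc
      rw [show g = c ^ (i.val : ℤ) * (c ^ (j.val : ℤ))⁻¹ from eq_mul_inv_iff_mul_eq.mpr h.symm]
      exact mul_mem (zpow_mem (Subgroup.mem_zpowers c) _) (inv_mem (zpow_mem (Subgroup.mem_zpowers c) _))
    · refine absurd ?_ hgc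
      rw [show g = c ^ (j.val : ℤ) * (c ^ (i.val : ℤ))⁻¹ from eq_mul_inv_iff_mul_eq.mpr h]
      exact mul_mem (zpow_mem (Subgroup.mem_zpowers c) _) (inv_mem (zpow_mem (Subgroup.mem_zpowers c) _))
    · rw [hcv (mul_left_cancel h)]
  let F : DihedralGroup n →* P := MonoidHom.mk' f hmul
  have hb : Function.Bijective F := (Nat.bijective_iff_injective_and_card F).mpr
    ⟨hinj, by rw [DihedralGroup.nat_card, hcard]⟩
  exact ⟨(MulEquiv.ofBijective F hb).symm⟩

/-- A maximal abelian normal subgroup is self-centralizing. -/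
theorem exists_normal_abelian_selfCentralizing [Finite P] {p : ℕ} [Fact p.Prime] (hP : IsPGroup p P) :
    ∃ A : Subgroup P, A.Normal ∧ IsMulCommutative A ∧ Subgroup.centralizer (A : Set P) = A := by
  obtain ⟨A, -, ⟨hAn, hAc⟩, hAmax⟩ := Finite.exists_le_maximal (α := Subgroup P)
    (p := fun A => A.Normal ∧ ∀ x ∈ A, ∀ y ∈ A, x * y = y * x) (a := ⊥)
    ⟨inferInstance, by simp⟩
  refine ⟨A, hAn, ⟨⟨fun x y => Subtype.ext (hAc x x.2 y y.2)⟩⟩, ?_⟩
  by_contra hne
  set C := Subgroup.centralizer (A : Set P) with hC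
  have hle : A ≤ C := fun x hx => Subgroup.mem_centralizer_iff.mpr fun y hy => hAc y hy x hx
  have hCn : C.Normal := by rw [hC]; infer_instance
  have : Nontrivial (C.map (QuotientGroup.mk' A)) := by
    rw [Subgroup.nontrivial_iff_ne_bot, Ne, Subgroup.map_eq_bot_iff, QuotientGroup.ker_mk']
    exact fun h => hne (le_antisymm h hle)
  have hQ : IsPGroup p (P ⧸ A) := hP.to_quotient A
  have hNn : (C.map (QuotientGroup.mk' A)).Normal := hCn.map _ (QuotientGroup.mk'_surjective A)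
  obtain ⟨w, hw⟩ := (hQ.to_subgroup (C.map (QuotientGroup.mk' A))).exists_card_eq
  have hdvd : p ∣ Nat.card (C.map (QuotientGroup.mk' A)) := by
    rcases w with _ | w
    · rw [pow_zero] at hw
      exact absurd hw (Finite.one_lt_card (α := C.map (QuotientGroup.mk' A))).ne'
    · rw [hw]; exact dvd_pow_self p (Nat.succ_ne_zero w)
  let _act : MulDistribMulAction (ConjAct (P ⧸ A)) (C.map (QuotientGroup.mk' A)) :=
    ConjAct.Subgroup.conjMulDistribMulAction
  obtain ⟨z, hz, hz1⟩ := IsPGroup.exists_fixed_point_of_prime_dvd_card_of_fixed_point (p := p)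
    (G := ConjAct (P ⧸ A)) (α := C.map (QuotientGroup.mk' A)) (hQ.of_equiv ConjAct.toConjAct) hdvd (a := 1)
    (fun g => by simp)
  obtain ⟨c, hc, hcz⟩ := (z.2 : (z : P ⧸ A) ∈ C.map (QuotientGroup.mk' A))
  have hcA : c ∉ A := fun h => hz1 (Subtype.ext (by
    rw [← hcz]
    simpa using ((QuotientGroup.eq_one_iff c).mpr h).symm))
  have hB : (A ⊔ Subgroup.zpowers c).Normal := by
    have h1 : A ⊔ Subgroup.zpowers c =
        (Subgroup.zpowers (QuotientGroup.mk' A c)).comap (QuotientGroup.mk' A) := by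
      rw [← MonoidHom.map_zpowers, Subgroup.comap_map_eq, QuotientGroup.ker_mk', sup_comm]
    rw [h1]
    refine Subgroup.Normal.comap ⟨fun x hx y => ?_⟩ _
    obtain ⟨i, rfl⟩ := Subgroup.mem_zpowers_iff.mp hx
    have : y * QuotientGroup.mk' A c * y⁻¹ = QuotientGroup.mk' A c := by
      have := congrArg Subtype.val (hz (ConjAct.toConjAct y))
      rw [hcz]
      simpa [ConjAct.Subgroup.val_conj_smul, ConjAct.smul_def] using this
    rw [← conj_zpow, this]
    exact zpow_mem (Subgroup.mem_zpowers _) i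
  refine hcA ((hAmax ⟨hB, ?_⟩ le_sup_left) (Subgroup.mem_sup_right (Subgroup.mem_zpowers c)))
  intro x hx y hy
  rw [← SetLike.mem_coe, Subgroup.normal_mul] at hx hy
  obtain ⟨x₁, hx₁, x₂, hx₂, rfl⟩ := Set.mem_mul.mp hx
  obtain ⟨y₁, hy₁, y₂, hy₂, rfl⟩ := Set.mem_mul.mp hy
  obtain ⟨i, rfl⟩ := Subgroup.mem_zpowers_iff.mp hx₂
  obtain ⟨j, rfl⟩ := Subgroup.mem_zpowers_iff.mp hy₂
  have hca : ∀ v ∈ A, Commute c v := fun v hv => (Subgroup.mem_centralizer_iff.mp hc v hv).symm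
  have h1 : Commute x₁ (y₁ * c ^ j) :=
    (show Commute x₁ y₁ from hAc x₁ hx₁ y₁ hy₁).mul_right ((hca x₁ hx₁).symm.zpow_right j)
  have h2 : Commute (c ^ i) (y₁ * c ^ j) :=
    ((hca y₁ hy₁).zpow_left i).mul_right ((Commute.refl c).zpow_zpow i j)
  exact (h1.mul_left h2).eq

open Cfsg.Agent.Lib.Frobenius in
/-- An element acting on the self-centralizing cyclic normal subgroup trivially modulo the
subgroup of order `p` gives a noncyclic abelian normal subgroup. -/
theorem not_forall_cyclic_of_modular [Finite P] {p n : ℕ} [Fact p.Prime]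
    (hn : ∀ B : Subgroup P, B.Normal → IsMulCommutative B → IsCyclic B)
    {a g : P} (hAn : (Subgroup.zpowers a).Normal) (ha : orderOf a = p ^ n)
    (hg : g ∉ Subgroup.zpowers a) (hgp : g ^ p ∈ Subgroup.zpowers a)
    (hM : (Subgroup.zpowers a ⊔ Subgroup.zpowers g).Normal)
    {r : ℤ} (hr : g * a * g⁻¹ = a ^ r) (hr1 : (p : ℤ) ^ (n - 1) ∣ r - 1)
    (hnd : ¬ (p : ℤ) ^ n ∣ r - 1) (hbig : 2 ≤ n ∧ (p = 2 → 3 ≤ n)) : False := by
  classical
  have hp : p.Prime := Fact.out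
  obtain ⟨hn2, hn3⟩ := hbig
  set A := Subgroup.zpowers a with hA
  have hpi : Prime (p : ℤ) := Nat.prime_iff_prime_int.mp hp
  have hpow : ∀ j : ℤ, a ^ j = 1 ↔ (p : ℤ) ^ n ∣ j := fun j => by
    rw [← orderOf_dvd_iff_zpow_eq_one, ha, Nat.cast_pow]
  obtain ⟨t, ht⟩ := Subgroup.mem_zpowers_iff.mp hgp
  have hn1 : n - 1 + 1 = n := by omega
  obtain ⟨k, hk⟩ := hr1
  have hkp : ¬ (p : ℤ) ∣ k := by
    rintro ⟨l, rfl⟩
    exact hnd ⟨l, by rw [hk, ← mul_assoc, ← pow_succ, hn1]⟩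
  have htp : (p : ℤ) ∣ t := by
    have h1 : a ^ t = a ^ (r * t) := by
      rw [zpow_mul, ← hr, conj_zpow, ht, ← pow_succ', pow_succ, mul_inv_cancel_right]
    have h2 : (p : ℤ) ^ n ∣ t * (r - 1) := by
      rw [← hpow, mul_sub, mul_one, zpow_sub, mul_comm t r, ← h1, mul_inv_cancel]
    rw [hk, ← hn1, pow_succ, Nat.add_sub_cancel] at h2
    have h3 : (p : ℤ) ^ (n - 1) * p ∣ (p : ℤ) ^ (n - 1) * (t * k) := by
      convert h2 using 1; ring
    exact (hpi.dvd_or_dvd (Int.dvd_of_mul_dvd_mul_left (pow_ne_zero _ (by exact_mod_cast hp.ne_zero)) h3)).resolve_right hkp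
  -- geometric sums are `p` times a unit
  have hsum : ∀ u : ℤ, (p : ℤ) ^ (n - 1) ∣ u - 1 →
      ∃ s : ℤ, (∑ j ∈ Finset.range p, u ^ j) = (p : ℤ) * s ∧ ¬ (p : ℤ) ∣ s := by
    intro u hu
    by_cases h2 : p = 2
    · subst h2
      have := hn3 rfl
      obtain ⟨l, hl⟩ : (4 : ℤ) ∣ u - 1 := by
        refine dvd_trans ?_ hu
        rw [show (4 : ℤ) = (2 : ℤ) ^ 2 by norm_num]
        push_cast
        exact pow_dvd_pow (2 : ℤ) (show 2 ≤ n - 1 by omega)
      refine ⟨1 + 2 * l, ?_, fun ⟨w, hw⟩ => by push_cast at hw; omega⟩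
      simp [Finset.sum_range_succ]
      linarith
    · exact geom_sum_modEq_of_dvd hp h2 ((dvd_pow_self (p : ℤ) (by omega : n - 1 ≠ 0)).trans hu)
  obtain ⟨s, hs, hps⟩ := hsum r ⟨k, hk⟩
  obtain ⟨t', rfl⟩ := htp
  obtain ⟨u, v, huv⟩ : IsCoprime s ((p : ℤ) ^ n) :=
    ((hpi.coprime_iff_not_dvd.mpr hps).symm).pow_right
  obtain ⟨x, hx, hxA⟩ := exists_order_prime_outside hp ha hg hr ht.symm (i := -(t' * u))
    ⟨(p : ℤ) * t' * v, by rw [hs]; push_cast; linear_combination (-((p : ℤ) * t')) * huv⟩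
  -- elements of exponent `p` in `M`
  set M := A ⊔ Subgroup.zpowers g with hMdef
  set z := a ^ ((p : ℤ) ^ (n - 1)) with hz
  have hzp : z ^ p = 1 := by
    rw [hz, ← zpow_natCast, ← zpow_mul, hpow, ← pow_succ, hn1]
  have hz1 : z ≠ 1 := by
    intro e
    rw [hz, hpow] at e
    have := Int.le_of_dvd (pow_pos (by exact_mod_cast hp.pos) _) e
    have h' : (p : ℤ) ^ (n - 1) < (p : ℤ) ^ n := pow_lt_pow_right₀ (by exact_mod_cast hp.one_lt) (by omega)
    omega
  set x₀ := a ^ (-(t' * u)) * g with hx₀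
  have hx₀p : x₀ ^ p = 1 := by
    rw [hx₀, mul_pow_of_conj_eq hr, ← ht, ← zpow_add, hpow, hs]
    exact ⟨(p : ℤ) * t' * v, by linear_combination (-((p : ℤ) * t')) * huv⟩
  have hx₀A : x₀ ∉ A := fun h => hg (by
    have := mul_mem (inv_mem (zpow_mem (Subgroup.mem_zpowers a) (-(t' * u)))) h
    rwa [hx₀, inv_mul_cancel_left] at this)
  have hrx : x₀ * a * x₀⁻¹ = a ^ r := by
    calc x₀ * a * x₀⁻¹ = a ^ (-(t' * u)) * (g * a * g⁻¹) * (a ^ (-(t' * u)))⁻¹ := by rw [hx₀]; group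
      _ = a ^ r := by rw [hr]; group
  have hzx : x₀ * z * x₀⁻¹ = z := by
    rw [hz, ← conj_zpow, hrx, ← zpow_mul, ← mul_inv_eq_one, ← zpow_sub, hpow]
    refine ⟨(p : ℤ) ^ (n - 1 - 1) * k, ?_⟩
    have e : r * (p : ℤ) ^ (n - 1) - (p : ℤ) ^ (n - 1) = (p : ℤ) ^ (n - 1) * ((p : ℤ) ^ (n - 1) * k) := by
      rw [← hk]; ring
    rw [e]
    conv_lhs => rw [show (p : ℤ) ^ (n - 1) * ((p : ℤ) ^ (n - 1) * k) = (p : ℤ) ^ (n - 1) * (p : ℤ) ^ (n - 1) * k by ring,
      ← pow_add, show n - 1 + (n - 1) = n + (n - 1 - 1) by omega, pow_add, mul_assoc]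
  have hMmem : ∀ m ∈ M, ∃ (i : ℤ) (j : ℕ), m = a ^ i * x₀ ^ j := by
    intro m hm
    have e : M = A ⊔ Subgroup.zpowers x₀ := by
      refine le_antisymm (sup_le le_sup_left (Subgroup.zpowers_le.mpr ?_))
        (sup_le le_sup_left (Subgroup.zpowers_le.mpr ?_))
      · have := mul_mem (Subgroup.mem_sup_left (T := Subgroup.zpowers x₀)
          (inv_mem (zpow_mem (Subgroup.mem_zpowers a) (-(t' * u))))) (Subgroup.mem_sup_right (Subgroup.mem_zpowers x₀))
        rwa [hx₀, inv_mul_cancel_left] at this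
      · exact mul_mem (Subgroup.mem_sup_left (zpow_mem (Subgroup.mem_zpowers a) _))
          (Subgroup.mem_sup_right (Subgroup.mem_zpowers g))
    rw [e, ← SetLike.mem_coe, Subgroup.normal_mul] at hm
    obtain ⟨m₁, hm₁, m₂, hm₂, rfl⟩ := Set.mem_mul.mp hm
    obtain ⟨i, rfl⟩ := Subgroup.mem_zpowers_iff.mp hm₁
    obtain ⟨j, rfl⟩ := (mem_powers_iff_mem_zpowers (x := x₀)).mpr hm₂
    exact ⟨i, j, rfl⟩
  have hexp : ∀ m ∈ M, m ^ p = 1 → m ∈ Subgroup.closure ({z, x₀} : Set P) := by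
    intro m hm hmp
    obtain ⟨i, j, rfl⟩ := hMmem m hm
    obtain ⟨s', hs', hps'⟩ := hsum (r ^ j) ((dvd_of_eq (rfl)).trans ((Dvd.intro k hk.symm : (p : ℤ) ^ (n - 1) ∣ r - 1).trans
      (by simpa using sub_dvd_pow_sub_pow r 1 j)))
    rw [mul_pow_of_conj_eq (conj_pow_of_conj_eq hrx j), hs', ← pow_mul, mul_comm j p, pow_mul, hx₀p,
      one_pow, mul_one, hpow] at hmp
    have h1 : (p : ℤ) * (p : ℤ) ^ (n - 1) ∣ (p : ℤ) * (i * s') := by
      rw [← pow_succ', hn1]; convert hmp using 1; ring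
    have h2 := ((hpi.coprime_iff_not_dvd.mpr hps').pow_left (m := n - 1)).dvd_of_dvd_mul_right
      (Int.dvd_of_mul_dvd_mul_left (by exact_mod_cast hp.ne_zero) h1)
    obtain ⟨l, rfl⟩ := h2
    rw [zpow_mul, ← hz]
    exact mul_mem (zpow_mem (Subgroup.subset_closure (by simp)) _)
      (pow_mem (Subgroup.subset_closure (by simp)) _)
  set W := Subgroup.closure ({z, x₀} : Set P) with hW
  have hzM : z ∈ M := Subgroup.mem_sup_left (zpow_mem (Subgroup.mem_zpowers a) _)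
  have hx₀M : x₀ ∈ M := mul_mem (Subgroup.mem_sup_left (zpow_mem (Subgroup.mem_zpowers a) _))
    (Subgroup.mem_sup_right (Subgroup.mem_zpowers g))
  have hWn : W.Normal := by
    refine ⟨fun w hw h => ?_⟩
    have hle : W ≤ W.comap (MulAut.conj h).toMonoidHom := by
      rw [hW, Subgroup.closure_le]
      have key : ∀ q : P, q ∈ M → q ^ p = 1 → h * q * h⁻¹ ∈ Subgroup.closure ({z, x₀} : Set P) := fun q hq hqp =>
        hexp _ (hM.conj_mem q hq h) (by rw [conj_pow, hqp, mul_one, mul_inv_cancel])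
      rintro q (rfl | rfl)
      · exact key _ hzM hzp
      · exact key _ hx₀M hx₀p
    exact hle hw
  have hWc : IsMulCommutative W := Subgroup.isMulCommutative_closure (by
    have hc : Commute x₀ z := mul_inv_eq_iff_eq_mul.mp hzx
    rintro q (rfl | rfl) q' (rfl | rfl)
    · rfl
    · exact hc.symm.eq
    · exact hc.eq
    · rfl)
  haveI := hn W hWn hWc
  letI : Fintype W := Fintype.ofFinite W
  have h := IsCyclic.card_pow_eq_one_le (α := W) hp.pos
  have hzW : z ∈ W := Subgroup.subset_closure (by simp)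
  have hx₀W : x₀ ∈ W := Subgroup.subset_closure (by simp)
  have hle : Subgroup.zpowers z ≤ W := Subgroup.zpowers_le.mpr hzW
  let f : Option (Subgroup.zpowers z) → {w : W // w ^ p = 1} := fun o => match o with
    | none => ⟨⟨x₀, hx₀W⟩, Subtype.ext hx₀p⟩
    | some q => ⟨⟨q, hle q.2⟩, Subtype.ext (by
        obtain ⟨i, hi⟩ := Subgroup.mem_zpowers_iff.mp q.2
        show (q : P) ^ p = 1
        rw [← hi, ← zpow_natCast, ← zpow_mul, mul_comm, zpow_mul, zpow_natCast, hzp, one_zpow])⟩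
  have hf : Function.Injective f := by
    have hne : ∀ q : Subgroup.zpowers z, x₀ ≠ q := fun q e => hx₀A (by
      rw [e]
      exact Subgroup.zpowers_le.mpr (zpow_mem (Subgroup.mem_zpowers a) _) q.2)
    rintro (_ | q) (_ | q') e <;>
      have e' := congrArg (fun w : {w : W // w ^ p = 1} => ((w : W) : P)) e
    · rfl
    · exact absurd e' (hne q')
    · exact absurd e'.symm (hne q)
    · exact congrArg some (Subtype.ext e')
  have h1 := Nat.card_le_card_of_injective f hf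
  rw [Finite.card_option, Nat.card_zpowers, orderOf_eq_prime hzp hz1, Nat.card_eq_fintype_card,
    Fintype.card_subtype] at h1
  omega

open Cfsg.Agent.Lib.Frobenius in
/-- A noncyclic `p`-group in which every abelian normal subgroup is cyclic has `p = 2` and is
quaternion, dihedral of order at least 16, or quasi-dihedral. -/
theorem classification_of_cyclic_normal_abelian [Finite P] {p : ℕ} [Fact p.Prime] (hP : IsPGroup p P)
    (hn : ∀ B : Subgroup P, B.Normal → IsMulCommutative B → IsCyclic B) (hnc : ¬ IsCyclic P) :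
    p = 2 ∧ ((∃ m : ℕ, Nonempty (P ≃* QuaternionGroup m)) ∨
      (∃ m : ℕ, 8 ≤ m ∧ Nonempty (P ≃* DihedralGroup m)) ∨ Cfsg.IsQuasiDihedral P) := by
  have hp : p.Prime := Fact.out
  obtain ⟨A, hAn, hAc, hCA⟩ := exists_normal_abelian_selfCentralizing hP
  obtain ⟨a, ha⟩ := (Subgroup.isCyclic_iff_exists_zpowers_eq_top A).mp (hn A hAn hAc)
  subst ha
  set A := Subgroup.zpowers a with hA
  have hmemA : ∀ g : P, g * a * g⁻¹ = a → g ∈ A := fun g hg => hCA.le <| by
    have hc : Commute g a := mul_inv_eq_iff_eq_mul.mp hg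
    rw [Subgroup.mem_centralizer_iff]
    intro y hy
    obtain ⟨i, rfl⟩ := Subgroup.mem_zpowers_iff.mp hy
    exact (hc.zpow_right i).eq.symm
  obtain ⟨h₀, hh₀⟩ : ∃ h, h ∉ A := by
    by_contra hc
    push Not at hc
    exact hnc (isCyclic_iff_exists_zpowers_eq_top.mpr ⟨a, eq_top_iff.mpr fun x _ => hc x⟩)
  obtain ⟨n, hna⟩ := (IsPGroup.iff_orderOf.mp hP) a
  have hpow : ∀ j : ℤ, a ^ j = 1 ↔ (p : ℤ) ^ n ∣ j := fun j => by
    rw [← orderOf_dvd_iff_zpow_eq_one, hna, Nat.cast_pow]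
  have heq : ∀ i j : ℤ, a ^ i = a ^ j ↔ (p : ℤ) ^ n ∣ i - j := fun i j => by
    rw [← mul_inv_eq_one, ← zpow_sub, hpow]
  have hconj : ∀ g : P, ∃ r : ℤ, g * a * g⁻¹ = a ^ r := fun g => by
    obtain ⟨r, hr⟩ := Subgroup.mem_zpowers_iff.mp (hAn.conj_mem a (Subgroup.mem_zpowers a) g)
    exact ⟨r, hr.symm⟩
  choose r hr using hconj
  have hmem : ∀ g, g ∈ A ↔ (p : ℤ) ^ n ∣ r g - 1 := by
    intro g
    rw [← heq, zpow_one, ← hr]
    refine ⟨fun hg => ?_, hmemA g⟩
    obtain ⟨i, rfl⟩ := Subgroup.mem_zpowers_iff.mp hg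
    group
  have hrmul : ∀ g h, a ^ r (g * h) = a ^ (r g * r h) := by
    intro g h
    rw [← hr, zpow_mul, ← hr g, conj_zpow, ← hr h]
    group
  -- commutators of `P` lie in `A`
  have hcomm : ∀ g h : P, h * g * h⁻¹ * g⁻¹ ∈ A := by
    intro g h
    apply hmemA
    have e : (h * g) * a * (h * g)⁻¹ = (g * h) * a * (g * h)⁻¹ := by
      rw [hr, hr, hrmul, hrmul, mul_comm]
    have e' : (g * h)⁻¹ * (h * g) * a * ((g * h)⁻¹ * (h * g))⁻¹ = a := by
      calc (g * h)⁻¹ * (h * g) * a * ((g * h)⁻¹ * (h * g))⁻¹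
          = (g * h)⁻¹ * ((h * g) * a * (h * g)⁻¹) * (g * h) := by group
        _ = a := by rw [e]; group
    calc h * g * h⁻¹ * g⁻¹ * a * (h * g * h⁻¹ * g⁻¹)⁻¹
        = (g * h) * ((g * h)⁻¹ * (h * g) * ((g * h)⁻¹ * a * (g * h)) * ((g * h)⁻¹ * (h * g))⁻¹) * (g * h)⁻¹ := by group
      _ = a := by
          obtain ⟨i, hi⟩ := Subgroup.mem_zpowers_iff.mp
            (hAn.conj_mem a (Subgroup.mem_zpowers a) (g * h)⁻¹)
          rw [inv_inv] at hi
          rw [← hi, ← conj_zpow, e', hi]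
          group
  have hMn : ∀ g : P, (A ⊔ Subgroup.zpowers g).Normal := by
    intro g
    refine ⟨fun w hw h => ?_⟩
    have hle : A ⊔ Subgroup.zpowers g ≤ (A ⊔ Subgroup.zpowers g).comap (MulAut.conj h).toMonoidHom := by
      refine sup_le (fun q hq => Subgroup.mem_sup_left (hAn.conj_mem q hq h)) (Subgroup.zpowers_le.mpr ?_)
      show h * g * h⁻¹ ∈ A ⊔ Subgroup.zpowers g
      have := mul_mem (Subgroup.mem_sup_left (T := Subgroup.zpowers g) (hcomm g h))
        (Subgroup.mem_sup_right (S := A) (Subgroup.mem_zpowers g))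
      rwa [inv_mul_cancel_right] at this
    exact hle hw
  have hrp : ∀ g, g ^ p ∈ A → (p : ℤ) ^ n ∣ r g ^ p - 1 := by
    intro g hgp
    have h1 := conj_pow_of_conj_eq (hr g) p
    obtain ⟨i, hi⟩ := Subgroup.mem_zpowers_iff.mp hgp
    rw [← heq, zpow_one, ← h1, ← hi]
    group
  have hn1 : 2 ≤ n := by
    obtain ⟨k, hk⟩ := hP h₀
    obtain ⟨j, hj, hj'⟩ := exists_pow_prime_mem hh₀ (hk ▸ A.one_mem)
    set g := h₀ ^ p ^ j
    by_contra hlt
    apply hj
    rw [hmem]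
    rcases Nat.lt_or_ge n 1 with h0 | h0
    · rw [show n = 0 by omega, pow_zero]; exact one_dvd _
    · have h1 : n = 1 := by omega
      have := hrp g hj'
      rw [h1, pow_one] at this ⊢
      rw [← ZMod.intCast_zmod_eq_zero_iff_dvd] at this ⊢
      push_cast at this ⊢
      rwa [ZMod.pow_card] at this
  have hpi : Prime (p : ℤ) := Nat.prime_iff_prime_int.mp hp
  have hmod : ∀ g, g ∉ A → g ^ p ∈ A → (p : ℤ) ^ (n - 1) ∣ r g - 1 → (p = 2 → 3 ≤ n) → False :=
    fun g hg hgp h1 h3 => not_forall_cyclic_of_modular hn hAn hna hg hgp (hMn g) (hr g) h1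
      (fun h => hg ((hmem g).mpr h)) ⟨hn1, h3⟩
  by_cases hp2 : p = 2
  swap
  · exfalso
    obtain ⟨k, hk⟩ := hP h₀
    obtain ⟨j, hj, hj'⟩ := exists_pow_prime_mem hh₀ (hk ▸ A.one_mem)
    set g := h₀ ^ p ^ j
    refine hmod g hj hj' ?_ (fun h => absurd h hp2)
    have h1 : (p : ℤ) ∣ r g - 1 := by
      have h1 : (p : ℤ) ∣ r g ^ p - 1 := (dvd_pow_self (p : ℤ) (by omega : n ≠ 0)).trans (hrp g hj')
      rw [← ZMod.intCast_zmod_eq_zero_iff_dvd] at h1 ⊢
      push_cast at h1 ⊢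
      rwa [ZMod.pow_card] at h1
    obtain ⟨s, hs, hps⟩ := geom_sum_modEq_of_dvd hp hp2 h1
    have h2 := hrp g hj'
    rw [← geom_sum_mul (r g) p, hs] at h2
    have h3 : (p : ℤ) * (p : ℤ) ^ (n - 1) ∣ (p : ℤ) * ((r g - 1) * s) := by
      rw [← pow_succ', show n - 1 + 1 = n by omega]; convert h2 using 1; ring
    exact ((hpi.coprime_iff_not_dvd.mpr hps).pow_left (m := n - 1)).dvd_of_dvd_mul_right
      (Int.dvd_of_mul_dvd_mul_left (by exact_mod_cast hp.ne_zero) h3)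
  subst hp2
  refine ⟨rfl, ?_⟩
  obtain ⟨m, rfl⟩ : ∃ m, n = m + 2 := ⟨n - 2, by omega⟩
  push_cast at hpow heq hmem hrp hmod
  have h4 : (4 : ℤ) ∣ 2 ^ (m + 2) := ⟨2 ^ m, by ring⟩
  -- elements squaring into `A` invert it modulo the involution
  have hinv : ∀ g, g ∉ A → g ^ 2 ∈ A →
      (2 : ℤ) ^ (m + 1) ∣ r g + 1 ∧ (4 : ℤ) ∣ r g + 1 := by
    intro g hg hgp
    obtain ⟨c, hc⟩ := hrp g hgp
    have hnd : ¬ (2 : ℤ) ^ (m + 2) ∣ r g - 1 := fun h => hg ((hmem g).mpr h)
    obtain ⟨w, hw | hw⟩ := Int.even_or_odd' (r g)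
    · exfalso
      obtain ⟨q, hq⟩ := h4
      rw [hw, hq] at hc
      have : (2 : ℤ) ∣ 1 := ⟨2 * w ^ 2 - 2 * q * c, by linarith⟩
      norm_num at this
    have hprod : (2 : ℤ) ^ m ∣ w * (w + 1) := by
      refine ⟨c, mul_left_cancel₀ (show (4 : ℤ) ≠ 0 by norm_num) ?_⟩
      rw [hw] at hc
      linear_combination hc
    obtain ⟨v, hv | hv⟩ := Int.even_or_odd' w
    · exfalso
      have hcop : IsCoprime ((2 : ℤ) ^ m) (w + 1) :=
        IsCoprime.pow_left ⟨-v, 1, by rw [hv]; ring⟩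
      obtain ⟨o, ho⟩ := hcop.dvd_of_dvd_mul_right hprod
      rcases Nat.eq_zero_or_pos m with hm | hm
      · subst hm
        exact hnd ⟨v, by rw [hw, hv]; ring⟩
      · refine hmod g hg hgp ⟨o, ?_⟩ (fun _ => by omega)
        rw [pow_succ, hw, ho]; ring
    · have hcop : IsCoprime ((2 : ℤ) ^ m) w := IsCoprime.pow_left ⟨-v, 1, by rw [hv]; ring⟩
      obtain ⟨o, ho⟩ := hcop.dvd_of_dvd_mul_left hprod
      refine ⟨⟨o, ?_⟩, ⟨v + 1, ?_⟩⟩
      · rw [hw, pow_succ]; linear_combination 2 * ho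
      · rw [hw, hv]; ring
  -- the index is two
  have hsq : ∀ h, h ∉ A → h ^ 2 ∈ A := by
    intro h hh
    by_contra hh2
    obtain ⟨k, hk⟩ := hP (h ^ 2)
    obtain ⟨j, hj, hj'⟩ := exists_pow_prime_mem hh2 (hk ▸ A.one_mem)
    set e := h ^ 2 ^ j with he
    have hje : (h ^ 2) ^ 2 ^ j = e ^ 2 := by rw [he, ← pow_mul, ← pow_mul, mul_comm]
    rw [hje] at hj hj'
    have h2 := (hinv _ hj hj').2
    have h3 : a ^ r (e ^ 2) = a ^ (r e * r e) := by rw [pow_two]; exact hrmul e e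
    rw [heq] at h3
    have h5 : (4 : ℤ) ∣ r e * r e + 1 := by
      have := Int.dvd_sub h2 (h4.trans h3)
      rwa [show r (e ^ 2) + 1 - (r (e ^ 2) - r e * r e) = r e * r e + 1 by ring] at this
    obtain ⟨q, hq⟩ := h5
    obtain ⟨w, hw | hw⟩ := Int.even_or_odd' (r e) <;> rw [hw] at hq
    · have : (4 : ℤ) ∣ 1 := ⟨q - w * w, by linear_combination hq⟩
      norm_num at this
    · have : (4 : ℤ) ∣ 2 := ⟨q - w * w - w, by linear_combination hq⟩
      norm_num at this
  have hmul : ∀ g h, g ∉ A → h ∉ A → g * h ∈ A := by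
    intro g h hg hh
    by_contra hgh
    have e1 := (hinv g hg (hsq g hg)).2
    have e2 := (hinv h hh (hsq h hh)).2
    have e3 := (hinv _ hgh (hsq _ hgh)).2
    have e4 := h4.trans ((heq _ _).mp (hrmul g h))
    obtain ⟨q1, hq1⟩ := e1
    obtain ⟨q2, hq2⟩ := e2
    obtain ⟨q3, hq3⟩ := e3
    obtain ⟨q4, hq4⟩ := e4
    have : (4 : ℤ) ∣ 2 := ⟨q3 - q4 - (r g) * q2 + q1, by
      linear_combination hq3 - hq4 - r g * hq2 + hq1⟩
    norm_num at this
  obtain ⟨g, hg⟩ : ∃ g, g ∉ A := ⟨h₀, hh₀⟩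
  have hg2 := hsq g hg
  obtain ⟨t, ht⟩ := Subgroup.mem_zpowers_iff.mp hg2
  have hidx : A.index = 2 := by
    rw [Subgroup.index_eq_two_iff]
    refine ⟨g, fun b => ?_⟩
    by_cases hb : b ∈ A
    · exact Or.inr ⟨hb, fun h => hg (by simpa using mul_mem (inv_mem hb) h)⟩
    · exact Or.inl ⟨hmul b g hb hg, hb⟩
  have hcard : Nat.card P = 2 ^ (m + 3) := by
    rw [← A.card_mul_index, hidx, hA, Nat.card_zpowers, hna]; ring
  obtain ⟨o, ho⟩ := (hinv g hg hg2).1
  -- `t` is `0` or `2 ^ (m + 1)`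
  have htA : (2 : ℤ) ^ (m + 2) ∣ t * (r g - 1) := by
    rw [mul_sub, mul_one, ← heq, mul_comm t, zpow_mul, ← hr g, conj_zpow, ht, ← pow_succ', pow_succ,
      mul_inv_cancel_right]
  obtain ⟨t', rfl⟩ : (2 : ℤ) ^ (m + 1) ∣ t := by
    have h2 : (2 : ℤ) * 2 ^ (m + 1) ∣ 2 * (t * (2 ^ m * o - 1)) := by
      rw [← pow_succ']
      convert htA using 1
      have : r g = 2 ^ (m + 1) * o - 1 := by linarith
      rw [this]; ring
    have hcop : IsCoprime ((2 : ℤ) ^ (m + 1)) (2 ^ m * o - 1) := by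
      rcases Nat.eq_zero_or_pos m with hm | hm
      · subst hm
        obtain ⟨q, hq⟩ := (hinv g hg hg2).2
        have ho' : o = 2 * q := by rw [hq] at ho; omega
        exact IsCoprime.pow_left ⟨q, -1, by rw [ho']; ring⟩
      · obtain ⟨m', rfl⟩ : ∃ m', m = m' + 1 := ⟨m - 1, by omega⟩
        exact IsCoprime.pow_left ⟨2 ^ m' * o, -1, by ring⟩
    exact hcop.dvd_of_dvd_mul_right (Int.dvd_of_mul_dvd_mul_left (by norm_num) h2)
  by_cases ho2 : (2 : ℤ) ∣ o
  · -- `g` inverts `A`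
    have hga : g * a * g⁻¹ = a⁻¹ := by
      rw [hr g, ← zpow_neg_one, heq]
      obtain ⟨o', rfl⟩ := ho2
      exact ⟨o', by rw [sub_neg_eq_add, ho]; ring⟩
    rcases Int.even_or_odd' t' with ⟨w, rfl | rfl⟩
    · have hg1 : g ^ 2 = 1 := by rw [← ht, hpow]; exact ⟨w, by ring⟩
      rcases Nat.eq_zero_or_pos m with hm | hm
      · -- dihedral of order 8 has a normal four-group
        subst hm
        exfalso
        set z := a ^ 2 with hz
        have hgz : g * z * g⁻¹ = z := by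
          rw [hz, ← conj_pow, hga, inv_pow]
          refine inv_eq_of_mul_eq_one_left ?_
          rw [← pow_add, ← hna.trans (by norm_num : 2 ^ (0 + 2) = 2 + 2)]
          exact pow_orderOf_eq_one a
        have hz2 : z ^ 2 = 1 := by
          rw [hz, ← pow_mul, ← orderOf_dvd_iff_pow_eq_one, hna]; norm_num
        have hz1 : z ≠ 1 := fun e => by
          have := orderOf_dvd_of_pow_eq_one e
          rw [hna] at this
          norm_num at this
        let Z := Subgroup.zpowers z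
        have hgc : ∀ w ∈ Z, g * w = w * g := by
          intro w hw
          obtain ⟨l, rfl⟩ := Subgroup.mem_zpowers_iff.mp hw
          exact ((show Commute g z from mul_inv_eq_iff_eq_mul.mp hgz).zpow_right l).eq
        have hZ2 : ∀ w ∈ Z, w ^ 2 = 1 := by
          intro w hw
          obtain ⟨l, rfl⟩ := Subgroup.mem_zpowers_iff.mp hw
          rw [← zpow_natCast, ← zpow_mul, mul_comm, zpow_mul, zpow_natCast, hz2, one_zpow]
        let W := adjoinSubgroup Z g hg1 hgc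
        have hgZ : g ∉ Z := fun h => hg (Subgroup.zpowers_le.mpr (pow_mem (Subgroup.mem_zpowers a) 2) h)
        have hW4 : Nat.card W = 4 := by
          rw [card_adjoinSubgroup hgZ, Nat.card_zpowers, orderOf_eq_prime hz2 hz1]
        have hW2 : W.index = 2 := by
          have h := W.card_mul_index
          rw [hW4, hcard] at h
          norm_num at h ⊢
          omega
        have hWn : W.Normal := Subgroup.normal_of_index_eq_two hW2
        have hWsq : ∀ w ∈ W, w ^ 2 = 1 := sq_eq_one_of_mem_adjoinSubgroup hZ2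
        haveI := hn W hWn ⟨⟨fun u v => Subtype.ext (commute_of_sq_eq_one hWsq u u.2 v v.2)⟩⟩
        obtain ⟨c, hc⟩ := IsCyclic.exists_ofOrder_eq_natCard (α := W)
        have h2 : orderOf c ∣ 2 := orderOf_dvd_of_pow_eq_one (Subtype.ext (hWsq c c.2))
        rw [hc, hW4] at h2
        norm_num at h2
      · refine Or.inr (Or.inl ⟨2 ^ (m + 2), ?_, mulEquiv_dihedralGroup_of_generators (c := a) hna hga hg1 hg ?_⟩)
        · calc 8 = 2 ^ 3 := by norm_num
            _ ≤ 2 ^ (m + 2) := Nat.pow_le_pow_right (by norm_num) (by omega)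
        · rw [hcard]; ring
    · haveI : NeZero (2 ^ (m + 1)) := ⟨pow_ne_zero _ (by norm_num)⟩
      refine Or.inl ⟨2 ^ (m + 1), Frobenius.mulEquiv_quaternionGroup_of_generators (c := a) (g := g)
        (by rw [hna]; ring) hga ?_ hg (by rw [hcard]; ring)⟩
      rw [← ht, ← zpow_natCast, heq]
      exact ⟨w, by push_cast; ring⟩
  · -- quasi-dihedral
    obtain ⟨o', rfl⟩ : ∃ o', o = 2 * o' + 1 := by
      rcases Int.even_or_odd' o with ⟨w, rfl | rfl⟩
      · exact absurd (dvd_mul_right 2 w) ho2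
      · exact ⟨w, rfl⟩
    have hm : 1 ≤ m := by
      by_contra hm
      obtain rfl : m = 0 := by omega
      obtain ⟨q, hq⟩ := (hinv g hg hg2).2
      rw [hq] at ho
      omega
    obtain ⟨i, hi⟩ : ∃ i : ℤ, (2 : ℤ) ^ (m + 2) ∣ i * (1 + r g) + 2 ^ (m + 1) * t' := by
      refine ⟨t', t' * o' + t', ?_⟩
      rw [add_comm 1, ho]; ring
    obtain ⟨y, hy, hyA⟩ := exists_order_prime_outside Nat.prime_two hna hg (hr g) ht.symm (i := i)
      (by simpa [Finset.sum_range_succ] using hi)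
    refine Or.inr (Or.inr ⟨m + 2, by omega, by rw [hcard], a, y, hna, hy, ?_⟩)
    obtain ⟨l, hl⟩ := Subgroup.mem_zpowers_iff.mp (hmul y g hyA hg)
    have hy' : y = a ^ l * g⁻¹ := by rw [hl]; group
    have hg' : g⁻¹ * a * g = a ^ r g := by
      calc g⁻¹ * a * g = g * ((g ^ 2)⁻¹ * a * g ^ 2) * g⁻¹ := by rw [pow_two]; group
        _ = a ^ r g := by rw [← ht, ← hr g]; group
    have he : y * a * y⁻¹ = a ^ r g := by
      calc y * a * y⁻¹ = a ^ l * (g⁻¹ * a * g) * (a ^ l)⁻¹ := by rw [hy']; group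
        _ = a ^ r g := by rw [hg']; group
    rw [he, ← zpow_natCast, heq, Nat.cast_sub Nat.one_le_two_pow]
    exact ⟨o', by push_cast; linear_combination ho⟩

end Cfsg.Agent.Lib.Classification
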