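import Cfsg.Agent.Lib.Classification.Basic
import Cfsg.Agent.Lib.ThreeTransp.Extraspecial
import Cfsg.Agent.Lib.Cores.Frattini

/-!
Extraspecial 2-subgroups inside a group: centralizers of subgroups have complementary order.
-/

set_option autoImplicit false

namespace Cfsg.Agent.Lib.Classification

variable {G : Type*} [Group G] [Finite G]

/-- The data of an extraspecial 2-subgroup `Q` with central involution `z`, as elements of `G`. -/
structure TwoExtraData (Q : Subgroup G) (z : G) : Prop where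
  mem : z ∈ Q
  sq : z * z = 1
  ne : z ≠ 1
  central : ∀ q ∈ Q, z * q = q * z
  center_le : ∀ c ∈ Q, (∀ q ∈ Q, c * q = q * c) → c = 1 ∨ c = z
  comm : ∀ a ∈ Q, ∀ b ∈ Q, a * b * a⁻¹ * b⁻¹ = 1 ∨ a * b * a⁻¹ * b⁻¹ = z
  sq_mem : ∀ a ∈ Q, a * a = 1 ∨ a * a = z

theorem TwoExtraData.of_isExtraspecial {Q : Subgroup G} (hQ : Cfsg.IsExtraspecial 2 ↥Q) {z : G}
    (hzQ : z ∈ Q) (hz : orderOf z = 2) (hzc : ∀ q ∈ Q, z * q = q * z) : TwoExtraData Q z := by
  have hz1 : z ≠ 1 := fun e => by rw [e, orderOf_one] at hz; omega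
  have hzz : (⟨z, hzQ⟩ : Q) ∈ Subgroup.center Q :=
    Subgroup.mem_center_iff.mpr fun q => Subtype.ext (hzc q q.2).symm
  have hc : ∀ c : Q, c ∈ Subgroup.center Q → (c : G) = 1 ∨ (c : G) = z := by
    intro c hcm
    by_cases h : c = 1
    · exact Or.inl (by rw [h]; rfl)
    · exact Or.inr (congrArg Subtype.val (Lib.ThreeTransp.extraspecial_center_eq (hE := hQ) hcm hzz h
        fun e => hz1 (congrArg Subtype.val e)))
  refine ⟨hzQ, by rw [← pow_two, ← hz, pow_orderOf_eq_one], hz1, hzc, ?_, ?_, ?_⟩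
  · intro c hcQ hcomm
    exact hc ⟨c, hcQ⟩ (Subgroup.mem_center_iff.mpr fun q => Subtype.ext (hcomm q q.2).symm)
  · intro a ha b hb
    refine hc (⟨a, ha⟩ * ⟨b, hb⟩ * ⟨a, ha⟩⁻¹ * ⟨b, hb⟩⁻¹) ?_
    rw [← hQ.1.2.2, commutator_def]
    exact Subgroup.commutator_mem_commutator (Subgroup.mem_top _) (Subgroup.mem_top _)
  · intro a ha
    refine hc (⟨a, ha⟩ * ⟨a, ha⟩) ?_
    rw [← hQ.1.2.1, ← pow_two]
    haveI : Fact (Nat.Prime 2) := ⟨Nat.prime_two⟩
    exact Lib.Cores.pow_mem_frattini hQ.1.1 _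

namespace TwoExtraData

variable {Q : Subgroup G} {z : G}

theorem conj_eq (h : TwoExtraData Q z) {a b : G} (ha : a ∈ Q) (hb : b ∈ Q) :
    a * b * a⁻¹ = b ∨ a * b * a⁻¹ = z * b := by
  rcases h.comm a ha b hb with e | e
  · left; calc a * b * a⁻¹ = (a * b * a⁻¹ * b⁻¹) * b := by group
      _ = b := by rw [e, one_mul]
  · right; calc a * b * a⁻¹ = (a * b * a⁻¹ * b⁻¹) * b := by group
      _ = z * b := by rw [e]

/-- Adding one element loses at most half of the centralizer. -/
theorem card_centralizer_step (h : TwoExtraData Q z) {K : Subgroup G} (hK : K ≤ Q) {g : G}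
    (hg : g ∈ Q) :
    Nat.card ↥(Q ⊓ Subgroup.centralizer (K : Set G)) ≤
      2 * Nat.card ↥(Q ⊓ Subgroup.centralizer ((K ⊔ Subgroup.zpowers g : Subgroup G) : Set G)) := by
  classical
  set C := Q ⊓ Subgroup.centralizer (K : Set G) with hC
  set C' := Q ⊓ Subgroup.centralizer ((K ⊔ Subgroup.zpowers g : Subgroup G) : Set G) with hC'
  have hin : ∀ c ∈ C, c * g * c⁻¹ = g → c ∈ C' := by
    rintro c ⟨hcQ, hcK⟩ he
    refine ⟨hcQ, ?_⟩
    have hle : K ⊔ Subgroup.zpowers g ≤ Subgroup.centralizer ({c} : Set G) := by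
      refine sup_le (fun k hk => Subgroup.mem_centralizer_singleton_iff.mpr
        (Subgroup.mem_centralizer_iff.mp hcK k hk)) (Subgroup.zpowers_le.mpr ?_)
      refine Subgroup.mem_centralizer_singleton_iff.mpr ?_
      calc g * c = c * g * c⁻¹ * c := by rw [he]
        _ = c * g := by group
    exact Subgroup.mem_centralizer_iff.mpr fun w hw => Subgroup.mem_centralizer_singleton_iff.mp (hle hw)
  by_cases hall : ∀ c ∈ C, c * g * c⁻¹ = g
  · have := Subgroup.card_le_of_le (fun c hc => hin c hc (hall c hc) : C ≤ C')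
    omega
  push Not at hall
  obtain ⟨c₀, hc₀, hne⟩ := hall
  have h₀ : c₀ * g * c₀⁻¹ = z * g := (h.conj_eq hc₀.1 hg).resolve_left hne
  have hsub : (C : Set G) ⊆ (C' : Set G) ∪ (fun w => c₀ * w) '' (C' : Set G) := by
    intro c hc
    rcases h.conj_eq hc.1 hg with e | e
    · exact Or.inl (hin c hc e)
    · refine Or.inr ⟨c₀⁻¹ * c, hin _ (C.mul_mem (C.inv_mem hc₀) hc) ?_, by simp⟩
      calc c₀⁻¹ * c * g * (c₀⁻¹ * c)⁻¹ = c₀⁻¹ * (c * g * c⁻¹) * c₀ := by group
        _ = c₀⁻¹ * (c₀ * g * c₀⁻¹) * c₀ := by rw [e, h₀]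
        _ = g := by group
  have h1 := Set.ncard_le_ncard hsub (Set.toFinite _)
  have h2 := Set.ncard_union_le (C' : Set G) ((fun w => c₀ * w) '' (C' : Set G))
  have h3 := Set.ncard_image_le (f := fun w => c₀ * w) (Set.toFinite (C' : Set G))
  rw [← Nat.card_coe_set_eq] at h1 h3
  simp only [← Nat.card_coe_set_eq] at h2
  show Nat.card ↥C ≤ 2 * Nat.card ↥C'
  change Nat.card ↥(C : Set G) ≤ 2 * Nat.card ↥(C' : Set G)
  simp only [Nat.card_coe_set_eq] at h1 h2 h3 ⊢
  omega

theorem mul_le_mul_of_le (h : TwoExtraData Q z) (L : Subgroup G) (hL : L ≤ Q) :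
    ∀ (n : ℕ) (K : Subgroup G), K ≤ L → Nat.card L - Nat.card K ≤ n →
      Nat.card K * Nat.card ↥(Q ⊓ Subgroup.centralizer (K : Set G)) ≤
        Nat.card L * Nat.card ↥(Q ⊓ Subgroup.centralizer (L : Set G)) := by
  intro n
  induction n with
  | zero =>
    intro K hK hn
    rw [Subgroup.eq_of_le_of_card_ge hK (by omega)]
  | succ n ih =>
    intro K hK hn
    by_cases hKL : L ≤ K
    · rw [le_antisymm hK hKL]
    obtain ⟨g, hgL, hgK⟩ := SetLike.not_le_iff_exists.mp hKL
    have hK' : K ⊔ Subgroup.zpowers g ≤ L := sup_le hK (Subgroup.zpowers_le.mpr hgL)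
    have hlt : K < K ⊔ Subgroup.zpowers g :=
      lt_of_le_of_ne le_sup_left fun e => hgK (e ▸ Subgroup.mem_sup_right (Subgroup.mem_zpowers g))
    have hdbl : 2 * Nat.card K ≤ Nat.card ↥(K ⊔ Subgroup.zpowers g : Subgroup G) := by
      obtain ⟨m, hm⟩ := Subgroup.card_dvd_of_le hlt.le
      have hne : Nat.card K ≠ Nat.card ↥(K ⊔ Subgroup.zpowers g : Subgroup G) :=
        fun e => hlt.ne (Subgroup.eq_of_le_of_card_ge hlt.le e.ge)
      have hpos : 0 < Nat.card ↥(K ⊔ Subgroup.zpowers g : Subgroup G) := Nat.card_pos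
      rcases m with _ | _ | m
      · omega
      · omega
      · rw [hm]; nlinarith [Nat.zero_le (Nat.card K * m)]
    have hstep := h.card_centralizer_step (hK.trans hL) (hL hgL)
    have hKpos : 0 < Nat.card K := Nat.card_pos
    refine le_trans ?_ (ih _ hK' (by omega))
    calc Nat.card K * Nat.card ↥(Q ⊓ Subgroup.centralizer (K : Set G))
        ≤ Nat.card K * (2 * Nat.card ↥(Q ⊓ Subgroup.centralizer ((K ⊔ Subgroup.zpowers g : Subgroup G) : Set G))) :=
          Nat.mul_le_mul_left _ hstep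
      _ ≤ _ := by rw [← mul_assoc, mul_comm (Nat.card K) 2]; exact Nat.mul_le_mul_right _ hdbl

theorem card_zpowers_eq (h : TwoExtraData Q z) : Nat.card ↥(Subgroup.zpowers z) = 2 := by
  rw [Nat.card_zpowers, orderOf_eq_prime (p := 2) (by rw [pow_two, h.sq]) h.ne]

theorem mem_zpowers (h : TwoExtraData Q z) {c : G} (hc : c ∈ Subgroup.zpowers z) : c = 1 ∨ c = z := by
  obtain ⟨k, rfl⟩ := Subgroup.mem_zpowers_iff.mp hc
  rcases Int.even_or_odd' k with ⟨m, rfl | rfl⟩
  · left; rw [zpow_mul, zpow_two, h.sq, one_zpow]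
  · right; rw [zpow_add, zpow_mul, zpow_two, h.sq, one_zpow, zpow_one, one_mul]

/-- Centralizers in an extraspecial 2-group have complementary order. -/
theorem card_mul_card_centralizer (h : TwoExtraData Q z) {K : Subgroup G} (hK : K ≤ Q)
    (hzK : z ∈ K) :
    Nat.card K * Nat.card ↥(Q ⊓ Subgroup.centralizer (K : Set G)) = 2 * Nat.card Q := by
  have hZK : Subgroup.zpowers z ≤ K := Subgroup.zpowers_le.mpr hzK
  have e1 : Q ⊓ Subgroup.centralizer ((Subgroup.zpowers z : Subgroup G) : Set G) = Q :=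
    inf_eq_left.mpr fun q hq => Subgroup.mem_centralizer_iff.mpr fun w hw => by
      rcases h.mem_zpowers hw with rfl | rfl
      · simp
      · exact h.central q hq
  have e2 : Q ⊓ Subgroup.centralizer (Q : Set G) = Subgroup.zpowers z := by
    refine le_antisymm (fun c hc => ?_) (le_inf (Subgroup.zpowers_le.mpr h.mem) ?_)
    · rcases h.center_le c hc.1 (fun q hq => (Subgroup.mem_centralizer_iff.mp hc.2 q hq).symm) with
        rfl | rfl
      · exact one_mem _
      · exact Subgroup.mem_zpowers _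
    · exact Subgroup.zpowers_le.mpr (Subgroup.mem_centralizer_iff.mpr fun q hq => (h.central q hq).symm)
  have a := h.mul_le_mul_of_le K hK _ _ hZK le_rfl
  have b := h.mul_le_mul_of_le Q le_rfl _ _ hK le_rfl
  rw [e1, h.card_zpowers_eq] at a
  rw [e2, h.card_zpowers_eq] at b
  omega

end TwoExtraData

end Cfsg.Agent.Lib.Classification

namespace Cfsg.Agent.Lib.Classification

theorem isExtraspecial_of_mulEquiv {A B : Type*} [Group A] [Group B] (e : A ≃* B) {p : ℕ}
    (h : Cfsg.IsExtraspecial p A) : Cfsg.IsExtraspecial p B := by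
  obtain ⟨⟨hp, hf, hc⟩, hcard⟩ := h
  have hmc := map_center_mulEquiv e
  have hfr : (frattini A).map (e : A →* B) = frattini B := by
    apply le_antisymm
    · exact Subgroup.map_le_iff_le_comap.mpr (frattini_le_comap_frattini_of_surjective e.surjective)
    · intro x hx
      exact ⟨e.symm x, frattini_le_comap_frattini_of_surjective (φ := (e.symm : B →* A)) e.symm.surjective hx,
        e.apply_symm_apply x⟩
  have hco : (commutator A).map (e : A →* B) = commutator B := by
    rw [commutator_def, Subgroup.map_commutator, Subgroup.map_top_of_surjective _ e.surjective,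
      commutator_def]
  refine ⟨⟨hp.of_equiv e, ?_, ?_⟩, ?_⟩
  · rw [← hfr, hf, hmc]
  · rw [← hco, hc, hmc]
  · rw [← hmc, Subgroup.card_map_of_injective (f := (e : A →* B)) e.injective, hcard]

end Cfsg.Agent.Lib.Classification
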