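import Mathlib
import Cfsg.Agent.Lib.SylowCounting.Counting

/-!
# Groups of order `(p + 1) * p * m` with `p + 1` Sylow `p`-subgroups as permutation groups

Such a simple group acts on `Option (ZMod p)`; the image is generated by the translation, a
multiplication and one permutation exchanging `none` and `some 0`, which is given by a formula.
-/

set_option autoImplicit false

namespace Cfsg.Agent.Lib.Classification

open scoped Pointwise

variable {p : ℕ}

/-- The candidate permutation exchanging `none` and `some 0`. -/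
def tMap (m k : ℕ) (a b νi : ZMod p) : Option (ZMod p) → Option (ZMod p)
  | none => some 0
  | some i => if i = 0 then none else if i ^ m = 1 then some (a * i ^ k) else some (b * (i * νi) ^ k)

/-- Translation of the finite points. -/
def addc (c : ZMod p) : Option (ZMod p) → Option (ZMod p) := Option.map (fun i => i + c)

/-- Is `w` affine with slope a `2`-nd power? -/
def affineSq (m : ℕ) (w : Option (ZMod p) → Option (ZMod p)) : Bool :=
  match w (some 0), w (some 1) with
  | some c, some d => decide ((d - c) ^ m = 1) &&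
      (List.range p).all fun i => decide (w (some (i : ZMod p)) = some ((d - c) * (i : ZMod p) + c))
  | _, _ => false

/-- The test that the stabilizer of `none` consists of affine maps. -/
def goodT (m k : ℕ) (a b νi : ZMod p) : Bool :=
  (List.range p).all fun j =>
    match tMap m k a b νi (some (j : ZMod p)) with
    | none => true
    | some u => affineSq m fun o =>
        tMap m k a b νi (addc (-u) (tMap m k a b νi (addc (j : ZMod p) (tMap m k a b νi o))))

variable [hp : Fact p.Prime] {G : Type*} [Group G] [Finite G]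

theorem affineSq_of_eq {m : ℕ} {w : Option (ZMod p) → Option (ZMod p)} {s c : ZMod p}
    (hs : s ^ m = 1) (hw : ∀ i, w (some i) = some (s * i + c)) : affineSq m w = true := by
  have h0 : w (some 0) = some c := by rw [hw, mul_zero, zero_add]
  have h1 : w (some 1) = some (s + c) := by rw [hw, mul_one]
  simp only [affineSq, h0, h1, add_sub_cancel_right, hs, Bool.and_eq_true, decide_eq_true_eq,
    List.all_eq_true, true_and]
  exact fun i _ => hw _

/-- The coordinates. -/
theorem exists_embedding [IsSimpleGroup G] {m : ℕ} (hcard : Nat.card G = p * ((p + 1) * m))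
    (hm : ¬ p ∣ (p + 1) * m) (hn : Nat.card (Sylow p G) = p + 1)
    (r ν νi : ZMod p) (hrm : r ^ m = 1) (hνi : ν * νi = 1)
    (hroots : ∀ i : ZMod p, i ^ m = 1 → ∃ j < m, i = r ^ j)
    (hrep : ∀ i : ZMod p, i ≠ 0 → i ^ m = 1 ∨ (i * νi) ^ m = 1) :
    ∃ (f : G →* Equiv.Perm (Option (ZMod p))) (x y t : G) (k : ℕ) (a b : ZMod p),
      Function.Injective f ∧ Subgroup.closure ({x, y, t} : Set G) = ⊤ ∧
      (∀ o, f x o = addc 1 o) ∧ (∀ o, f y o = o.map (fun i => r * i)) ∧
      (∀ o, f t o = tMap m k a b νi o) ∧ k < m ∧ r ^ (k * k) = r ∧ t * y * t⁻¹ = y ^ k ∧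
      (a = 1 ∨ a = ν) ∧ goodT m k a b νi = true := by
  classical
  have hp' := hp.out
  haveI : NeZero p := ⟨hp'.ne_zero⟩
  have hm0 : 0 < m := Nat.pos_of_ne_zero fun h => by
    rw [h, mul_zero, mul_zero] at hcard
    exact Nat.card_pos.ne' hcard
  -- the action is faithful
  set φ := MulAction.toPermHom G (Sylow p G) with hφ
  have hφinj : Function.Injective φ := by
    rw [← MonoidHom.ker_eq_bot_iff]
    refine ((inferInstance : φ.ker.Normal).eq_bot_or_eq_top).resolve_right fun h => ?_
    obtain ⟨P₀⟩ : Nonempty (Sylow p G) := inferInstance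
    have hall : ∀ Q : Sylow p G, Q = P₀ := fun Q => by
      obtain ⟨g, hg⟩ := MulAction.exists_smul_eq G P₀ Q
      rw [← hg]
      exact congrArg (fun σ : Equiv.Perm (Sylow p G) => σ P₀) (MonoidHom.mem_ker.mp (h.ge (Subgroup.mem_top g)))
    haveI : Subsingleton (Sylow p G) := ⟨fun a b => (hall a).trans (hall b).symm⟩
    have := Nat.card_le_card_of_injective (fun _ : Sylow p G => ()) (fun a b _ => Subsingleton.elim a b)
    rw [hn, Nat.card_unique] at this
    have := hp'.two_le
    omega
  obtain ⟨P⟩ : Nonempty (Sylow p G) := inferInstance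
  have hPcard : ∀ Q : Sylow p G, Nat.card (Q : Subgroup G) = p := fun Q => by
    rw [Cfsg.Agent.Lib.SylowCounting.sylow_card (k := 1) (m := (p + 1) * m) (by rw [pow_one]; exact hcard) hm Q,
      pow_one]
  obtain ⟨⟨x, hxP⟩, hxne⟩ : ∃ x : ↥(P : Subgroup G), x ≠ 1 := by
    by_contra h
    push_neg at h
    haveI : Subsingleton ↥(P : Subgroup G) := ⟨fun a b => (h a).trans (h b).symm⟩
    have := hPcard P
    rw [Nat.card_unique] at this
    exact hp'.ne_one this.symm
  have hx1 : x ≠ 1 := fun h => hxne (Subtype.ext h)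
  have hxord : orderOf x = p := by
    have := orderOf_dvd_natCard (⟨x, hxP⟩ : ↥(P : Subgroup G))
    rw [hPcard, ← Subgroup.orderOf_coe] at this
    exact ((Nat.dvd_prime hp').mp this).resolve_left (fun h => hx1 (orderOf_eq_one_iff.mp h))
  let xp : ZMod p → G := fun i => x ^ i.val
  have xp_add : ∀ i j, xp (i + j) = xp i * xp j := fun i j => by
    show x ^ (i + j).val = x ^ i.val * x ^ j.val
    rw [← pow_add, pow_eq_pow_iff_modEq, hxord, ZMod.val_add]
    exact Nat.mod_modEq _ _
  have xp_nat : ∀ n : ℕ, xp (n : ZMod p) = x ^ n := fun n => by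
    show x ^ ((n : ZMod p)).val = x ^ n
    rw [pow_eq_pow_iff_modEq, hxord, ZMod.val_natCast]
    exact Nat.mod_modEq _ _
  have hxP' : x • P = P := Sylow.smul_eq_iff_mem_normalizer.mpr (Subgroup.le_normalizer hxP)
  have hxfix : ∀ Q : Sylow p G, x • Q = Q → Q = P := by
    intro Q hQ
    have hz : IsPGroup p ↥(Subgroup.zpowers x) := IsPGroup.of_card (n := 1) (by rw [Nat.card_zpowers, hxord, pow_one])
    have hle : Subgroup.zpowers x ≤ Subgroup.normalizer ((Q : Subgroup G) : Set G) :=
      Subgroup.zpowers_le.mpr (Sylow.smul_eq_iff_mem_normalizer.mp hQ)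
    have h1 : Subgroup.zpowers x ⊔ (Q : Subgroup G) = (Q : Subgroup G) :=
      Q.3 (hz.to_sup_of_normal_right' Q.2 hle) le_sup_right
    have h2 : Subgroup.zpowers x ≤ (Q : Subgroup G) := h1 ▸ le_sup_left
    have e1 : Subgroup.zpowers x = (Q : Subgroup G) :=
      Subgroup.eq_of_le_of_card_ge h2 (by rw [hPcard, Nat.card_zpowers, hxord])
    have e2 : Subgroup.zpowers x = (P : Subgroup G) :=
      Subgroup.eq_of_le_of_card_ge (Subgroup.zpowers_le.mpr hxP) (by rw [hPcard, Nat.card_zpowers, hxord])
    exact Sylow.ext (e1.symm.trans e2)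
  obtain ⟨Q₀, hQ₀⟩ : ∃ Q₀ : Sylow p G, Q₀ ≠ P := by
    by_contra h
    push_neg at h
    haveI : Subsingleton (Sylow p G) := ⟨fun a b => (h a).trans (h b).symm⟩
    rw [Nat.card_unique] at hn
    have := hp'.two_le
    omega
  have hpowfix : ∀ n : ℕ, x ^ n • P = P := fun n => by
    induction n with
    | zero => simp
    | succ n ih => rw [pow_succ, mul_smul, hxP', ih]
  -- coordinates
  let e₀ : Option (ZMod p) → Sylow p G := fun o => o.elim P (fun i => xp i • Q₀)
  have he₀ : Function.Bijective e₀ := by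
    refine (Nat.bijective_iff_injective_and_card e₀).mpr ⟨?_, ?_⟩
    · have hne : ∀ i, xp i • Q₀ ≠ P := fun i h => hQ₀ (by
        have := congrArg (fun R => (xp i)⁻¹ • R) h
        simp only [inv_smul_smul] at this
        rw [this, inv_smul_eq_iff]
        exact (hpowfix _).symm)
      rintro (_ | i) (_ | j) h
      · rfl
      · exact absurd h.symm (hne j)
      · exact absurd h (hne i)
      · congr 1
        by_contra hij
        have h1 : xp (i - j) • Q₀ = Q₀ := by
          have h2 : xp (i - j + j) • Q₀ = xp j • Q₀ := by rw [sub_add_cancel]; exact h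
          rw [add_comm, xp_add, mul_smul] at h2
          exact smul_left_cancel _ h2
        refine hQ₀ (hxfix Q₀ ?_)
        have hmem : ∀ n : ℕ, xp ((n : ZMod p) * (i - j)) • Q₀ = Q₀ := by
          intro n
          induction n with
          | zero => simp [xp]
          | succ n ih => rw [Nat.cast_succ, add_mul, one_mul, xp_add, mul_smul, h1, ih]
        have := hmem ((i - j)⁻¹).val
        rw [ZMod.natCast_zmod_val, inv_mul_cancel₀ (sub_ne_zero.mpr hij), ← Nat.cast_one, xp_nat, pow_one] at this
        exact this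
    · rw [hn, Nat.card_eq_fintype_card, Fintype.card_option, ZMod.card]
  let e : Option (ZMod p) ≃ Sylow p G := Equiv.ofBijective e₀ he₀
  let f : G →* Equiv.Perm (Option (ZMod p)) :=
    { toFun := fun g => (e.trans (φ g)).trans e.symm
      map_one' := by ext o; simp
      map_mul' := fun g h => by ext o; simp }
  have fdef : ∀ g o, e (f g o) = g • e o := fun g o => by
    show e (e.symm (φ g (e o))) = _
    rw [e.apply_symm_apply]
    rfl
  have finj : Function.Injective f := fun g h hgh => hφinj (Equiv.ext fun Q => by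
    have := congrArg (fun σ : Equiv.Perm (Option (ZMod p)) => e (σ (e.symm Q))) hgh
    simp only [fdef, e.apply_symm_apply] at this
    exact this)
  have e_none : e none = P := rfl
  have e_some : ∀ i, e (some i) = xp i • Q₀ := fun i => rfl
  have hfx : ∀ o, f x o = addc 1 o := by
    intro o
    apply e.injective
    rw [fdef]
    rcases o with _ | i
    · exact hxP'
    · show x • (xp i • Q₀) = xp (i + 1) • Q₀
      rw [← mul_smul, add_comm i, xp_add, ← Nat.cast_one, xp_nat, pow_one]
  have hfxp : ∀ (c : ZMod p) o, f (xp c) o = addc c o := by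
    intro c o
    apply e.injective
    rw [fdef]
    rcases o with _ | i
    · exact hpowfix _
    · show xp c • (xp i • Q₀) = xp (i + c) • Q₀
      rw [← mul_smul, add_comm i, xp_add]
  -- the stabilizer of two points
  set C := MulAction.stabilizer G P ⊓ MulAction.stabilizer G Q₀ with hC
  have hCf : ∀ c ∈ C, f c none = none ∧ f c (some 0) = some 0 := by
    rintro c ⟨h1, h2⟩
    constructor <;> apply e.injective <;> rw [fdef]
    · exact h1
    · show c • (xp 0 • Q₀) = xp 0 • Q₀
      simpa [xp] using h2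
  have hslope : ∀ c ∈ C, ∃ s : ZMod p, ∀ i, f c (some i) = some (s * i) := by
    intro c hc
    have hcx : c * x * c⁻¹ ∈ (P : Subgroup G) :=
      (Subgroup.mem_set_normalizer_iff.mp (Sylow.smul_eq_iff_mem_normalizer.mp hc.1) x).mp hxP
    have hzP : Subgroup.zpowers x = (P : Subgroup G) :=
      Subgroup.eq_of_le_of_card_ge (Subgroup.zpowers_le.mpr hxP) (by rw [hPcard, Nat.card_zpowers, hxord])
    rw [← hzP, mem_zpowers_iff_mem_range_orderOf] at hcx
    obtain ⟨n, -, hn'⟩ := Finset.mem_image.mp hcx
    refine ⟨(n : ZMod p), fun i => ?_⟩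
    have hconj : c * xp i * c⁻¹ = xp ((n : ZMod p) * i) := by
      show c * x ^ i.val * c⁻¹ = _
      rw [← conj_pow, ← hn', ← pow_mul, ← xp_nat, Nat.cast_mul, ZMod.natCast_zmod_val]
    have h0 : some i = f (xp i) (some 0) := by rw [hfxp]; simp [addc]
    calc f c (some i) = f (c * xp i) (some 0) := by rw [map_mul, Equiv.Perm.mul_apply, ← h0]
      _ = f (xp ((n : ZMod p) * i) * c) (some 0) := by rw [← hconj]; congr 2; group
      _ = some ((n : ZMod p) * i) := by
        rw [map_mul, Equiv.Perm.mul_apply, (hCf c hc).2, hfxp]; simp [addc]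
  -- transitivity
  have htrans : ∀ i : ZMod p, ∃ g ∈ MulAction.stabilizer G P, g • Q₀ = e (some i) := fun i =>
    ⟨xp i, hpowfix _, (e_some i).symm⟩
  have hstabcard : Nat.card ↥(MulAction.stabilizer G P) = p * m := by
    have h1 := (MulAction.stabilizer G P).card_mul_index
    rw [MulAction.index_stabilizer_of_transitive G P, hn, hcard] at h1
    exact Nat.eq_of_mul_eq_mul_right (Nat.succ_pos p) (h1.trans (by rw [Nat.succ_eq_add_one]; ring))
  have hCcard : Nat.card ↥C = m := by
    -- the stabilizer of `P` is transitive on the other points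
    set N := MulAction.stabilizer G P
    have h1 := (MulAction.stabilizer ↥N Q₀).card_mul_index
    rw [MulAction.index_stabilizer] at h1
    have h2 : MulAction.orbit ↥N Q₀ = {Q | Q ≠ P} := by
      ext Q
      constructor
      · rintro ⟨g, rfl⟩ h
        apply hQ₀
        have hg : (g : G) • Q₀ = P := h
        rw [← inv_smul_eq_iff.mpr hg.symm]
        exact MulAction.mem_stabilizer_iff.mp (N.inv_mem g.2)
      · intro hQ
        obtain ⟨o, rfl⟩ := e.surjective Q
        rcases o with _ | i
        · exact absurd rfl hQ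
        · exact ⟨⟨xp i, hpowfix _⟩, (e_some i).symm⟩
    have h3 : ({Q | Q ≠ P} : Set (Sylow p G)).ncard = p := by
      rw [show ({Q | Q ≠ P} : Set (Sylow p G)) = {P}ᶜ from rfl, Set.ncard_compl, Set.ncard_singleton, hn]
      omega
    rw [h2, h3, hstabcard] at h1
    have h4 : Nat.card ↥(MulAction.stabilizer ↥N Q₀) = Nat.card ↥C := by
      refine Nat.card_congr
        { toFun := fun c => ⟨(c.1 : G), c.1.2, c.2⟩
          invFun := fun c => ⟨⟨c.1, c.2.1⟩, c.2.2⟩
          left_inv := fun c => rfl
          right_inv := fun c => rfl }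
    rw [h4] at h1
    exact Nat.eq_of_mul_eq_mul_right hp'.pos (h1.trans (mul_comm _ _))
  choose sl hsl using hslope
  have slinj : ∀ c hc d hd, sl c hc = sl d hd → c = d := fun c hc d hd h => finj (Equiv.ext fun o => by
    rcases o with _ | i
    · rw [(hCf c hc).1, (hCf d hd).1]
    · rw [hsl c hc, hsl d hd, h])
  have slm : ∀ c hc, sl c hc ^ m = 1 := by
    intro c hc
    have hpow : ∀ n : ℕ, f (c ^ n) (some 1) = some (sl c hc ^ n) := by
      intro n
      induction n with
      | zero => simp
      | succ n ih => rw [pow_succ', map_mul, Equiv.Perm.mul_apply, ih, hsl c hc, pow_succ']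
    have hcm : c ^ m = 1 := by
      have := pow_card_eq_one' (G := ↥C) (x := ⟨c, hc⟩)
      rw [hCcard] at this
      exact congrArg Subtype.val this
    have := hpow m
    rw [hcm, map_one] at this
    exact (Option.some.inj this).symm
  -- a generator of the two-point stabilizer
  obtain ⟨y, hy, hyr⟩ : ∃ y, ∃ hy : y ∈ C, sl y hy = r := by
    let g : ↥C → {i : ZMod p // i ^ m = 1} := fun c => ⟨sl c.1 c.2, slm c.1 c.2⟩
    have hg : Function.Injective g := fun c d h =>
      Subtype.ext (slinj _ _ _ _ (congrArg Subtype.val h))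
    have hle : Nat.card {i : ZMod p // i ^ m = 1} ≤ m := by
      choose j hj hij using fun i : {i : ZMod p // i ^ m = 1} => hroots i.1 i.2
      have := Nat.card_le_card_of_injective (fun i => (⟨j i, hj i⟩ : Fin m)) (fun a b h => by
        have e1 := congrArg Fin.val h
        exact Subtype.ext ((hij a).trans ((congrArg (r ^ ·) e1).trans (hij b).symm)))
      rwa [Nat.card_fin] at this
    have hbij : Function.Bijective g := (Nat.bijective_iff_injective_and_card g).mpr
      ⟨hg, le_antisymm (Nat.card_le_card_of_injective g hg) (by rw [hCcard]; exact hle)⟩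
    obtain ⟨c, hc⟩ := hbij.2 ⟨r, hrm⟩
    exact ⟨c.1, c.2, congrArg Subtype.val hc⟩
  have hfy : ∀ o, f y o = o.map (fun i => r * i) := by
    rintro (_ | i)
    · exact (hCf y hy).1
    · rw [hsl y hy, hyr]; rfl
  have hfyp : ∀ (n : ℕ) i, f (y ^ n) (some i) = some (r ^ n * i) := by
    intro n i
    induction n with
    | zero => simp
    | succ n ih =>
      rw [pow_succ', map_mul, Equiv.Perm.mul_apply, ih, hfy, Option.map_some, pow_succ', mul_assoc]
  have hCy : ∀ c ∈ C, ∃ j < m, c = y ^ j := by
    intro c hc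
    obtain ⟨j, hj, e1⟩ := hroots _ (slm c hc)
    refine ⟨j, hj, finj (Equiv.ext fun o => ?_)⟩
    rcases o with _ | i
    · rw [(hCf c hc).1, (hCf _ (C.pow_mem hy j)).1]
    · rw [hsl c hc, hfyp, e1]
  -- an element exchanging the two points
  obtain ⟨g, hg⟩ := MulAction.exists_smul_eq G P Q₀
  have hg2 : g • Q₀ ≠ Q₀ := fun h => hQ₀ (smul_left_cancel g (h.trans hg.symm))
  obtain ⟨i₁, hi₁⟩ : ∃ i, g⁻¹ • P = xp i • Q₀ := by
    obtain ⟨o, ho⟩ := e.surjective (g⁻¹ • P)
    rcases o with _ | i
    · exfalso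
      apply hQ₀
      rw [← hg]
      exact (inv_smul_eq_iff.mp ho.symm).symm
    · exact ⟨i, ho.symm⟩
  set t₁ := g * xp i₁ with ht₁
  have t₁P : t₁ • P = Q₀ := by rw [ht₁, mul_smul, hpowfix, hg]
  have t₁Q : t₁ • Q₀ = P := by rw [ht₁, mul_smul, ← hi₁, smul_inv_smul]
  -- normalize its value at `1`
  obtain ⟨n₀, hn₀⟩ : ∃ n : ℕ, f (y ^ n * t₁) (some 1) = some 1 ∨ f (y ^ n * t₁) (some 1) = some ν := by
    have hne0 : f t₁ (some 1) ≠ none ∧ f t₁ (some 1) ≠ some 0 := by
      have ft0 : f t₁ (some 0) = none := e.injective (by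
        rw [fdef, e_none, e_some]; simpa [xp] using t₁Q)
      have ftn : f t₁ none = some 0 := e.injective (by
        rw [fdef, e_none, e_some]; simpa [xp] using t₁P)
      refine ⟨fun h => ?_, fun h => ?_⟩
      · have := (f t₁).injective (h.trans ft0.symm)
        exact one_ne_zero (Option.some.inj this)
      · have := (f t₁).injective (h.trans ftn.symm)
        simp at this
    obtain ⟨a, ha⟩ := Option.ne_none_iff_exists'.mp hne0.1
    have ha0 : a ≠ 0 := fun h => hne0.2 (by rw [ha, h])
    rcases hrep a ha0 with h | h <;> obtain ⟨j, hj, e1⟩ := hroots _ h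
    · refine ⟨m - j, Or.inl ?_⟩
      rw [map_mul, Equiv.Perm.mul_apply, ha, hfyp, e1, ← pow_add, Nat.sub_add_cancel hj.le, hrm]
    · refine ⟨m - j, Or.inr ?_⟩
      rw [map_mul, Equiv.Perm.mul_apply, ha, hfyp]
      congr 1
      calc r ^ (m - j) * a = r ^ (m - j) * (a * νi) * ν := by rw [mul_assoc, mul_assoc, mul_comm νi ν, hνi, mul_one]
        _ = ν := by rw [e1, ← pow_add, Nat.sub_add_cancel hj.le, hrm, one_mul]
  set t := y ^ n₀ * t₁ with ht
  have tP : t • P = Q₀ := by
    rw [ht, mul_smul, t₁P]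
    exact (C.pow_mem hy n₀).2
  have tQ : t • Q₀ = P := by
    rw [ht, mul_smul, t₁Q]
    exact (C.pow_mem hy n₀).1
  have tnorm : ∀ c ∈ C, t * c * t⁻¹ ∈ C := by
    intro c hc
    refine ⟨?_, ?_⟩ <;> show (t * c * t⁻¹) • _ = _ <;> rw [mul_smul, mul_smul]
    · rw [inv_smul_eq_iff.mpr tQ.symm, show c • Q₀ = Q₀ from hc.2, tQ]
    · rw [inv_smul_eq_iff.mpr tP.symm, show c • P = P from hc.1, tP]
  obtain ⟨k, hk, hty⟩ := hCy _ (tnorm y hy)
  have ttC : t * t ∈ C :=
    ⟨by show (t * t) • P = P; rw [mul_smul, tP, tQ], by show (t * t) • Q₀ = Q₀; rw [mul_smul, tQ, tP]⟩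
  have hkk : r ^ (k * k) = r := by
    obtain ⟨i, -, hi⟩ := hCy _ ttC
    have e1 : y ^ (k * k) = y := by
      calc y ^ (k * k) = (t * y * t⁻¹) ^ k := by rw [hty, ← pow_mul]
        _ = t * (t * y * t⁻¹) * t⁻¹ := by rw [conj_pow, hty]
        _ = (t * t) * y * (t * t)⁻¹ := by group
        _ = y := by rw [hi]; group
    have e2 := hfyp (k * k) 1
    rw [e1, hfy, Option.map_some, mul_one, mul_one] at e2
    exact (Option.some.inj e2).symm
  have ft0 : f t (some 0) = none := e.injective (by
    rw [fdef, e_none, e_some]; simpa [xp] using tQ)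
  have ftn : f t none = some 0 := e.injective (by
    rw [fdef, e_none, e_some]; simpa [xp] using tP)
  obtain ⟨a, ha, haν⟩ : ∃ a, f t (some 1) = some a ∧ (a = 1 ∨ a = ν) := by
    rcases hn₀ with h | h
    · exact ⟨1, h, Or.inl rfl⟩
    · exact ⟨ν, h, Or.inr rfl⟩
  obtain ⟨b, hb⟩ : ∃ b, f t (some ν) = some b := by
    refine Option.ne_none_iff_exists'.mp fun h => ?_
    have := Option.some.inj ((f t).injective (h.trans ft0.symm))
    rw [this, zero_mul] at hνi
    exact zero_ne_one hνi
  have hmove : ∀ (n : ℕ) i v, f t (some i) = some v → f t (some (r ^ n * i)) = some (r ^ (k * n) * v) := by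
    intro n i v hv
    have e1 : t * y ^ n = y ^ (k * n) * t := by
      rw [pow_mul, ← hty, conj_pow]; group
    rw [← hfyp, ← Equiv.Perm.mul_apply, ← map_mul, e1, map_mul, Equiv.Perm.mul_apply, hv, hfyp]
  have hft : ∀ o, f t o = tMap m k a b νi o := by
    rintro (_ | i)
    · exact ftn
    by_cases hi : i = 0
    · subst hi; simp [tMap, ft0]
    by_cases him : i ^ m = 1
    · obtain ⟨j, -, rfl⟩ := hroots i him
      have := hmove j 1 a ha
      rw [mul_one] at this
      simp only [tMap, hi, if_false, him, if_true, this]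
      rw [← pow_mul, mul_comm j k, mul_comm]
    · obtain ⟨j, -, hj⟩ := hroots _ ((hrep i hi).resolve_left him)
      have hi' : i = r ^ j * ν := by
        rw [← hj, mul_assoc, mul_comm νi ν, hνi, mul_one]
      simp only [tMap, hi, if_false, him]
      rw [hj, hi', hmove j ν b hb, ← pow_mul, mul_comm j k, mul_comm]
  -- the stabilizer of `P` consists of the maps `i ↦ r ^ j * i + c`
  have hN : ∀ w ∈ MulAction.stabilizer G P, ∃ (c : ZMod p) (j : ℕ), w = xp c * y ^ j := by
    intro w hw
    obtain ⟨o, ho⟩ := e.surjective (w • Q₀)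
    rcases o with _ | i
    · exact absurd (smul_left_cancel w (ho.symm.trans (MulAction.mem_stabilizer_iff.mp hw).symm)) hQ₀
    · have hc : (xp i)⁻¹ * w ∈ C := by
        refine ⟨?_, ?_⟩ <;> show ((xp i)⁻¹ * w) • _ = _ <;> rw [mul_smul]
        · rw [MulAction.mem_stabilizer_iff.mp hw, inv_smul_eq_iff]; exact (hpowfix _).symm
        · rw [← ho, e_some, inv_smul_smul]
      obtain ⟨j, -, hj⟩ := hCy _ hc
      exact ⟨i, j, by rw [← hj, mul_inv_cancel_left]⟩
  have hgood : goodT m k a b νi = true := by
    simp only [goodT, List.all_eq_true]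
    intro j _
    cases hu : tMap m k a b νi (some (j : ZMod p)) with
    | none => rfl
    | some u =>
      set w := t * xp (-u) * t * xp (j : ZMod p) * t with hw
      have hwo : ∀ o, f w o =
          tMap m k a b νi (addc (-u) (tMap m k a b νi (addc (j : ZMod p) (tMap m k a b νi o)))) := fun o => by
        simp only [hw, map_mul, Equiv.Perm.mul_apply, hft, hfxp]
      have hwP : w ∈ MulAction.stabilizer G P := by
        rw [MulAction.mem_stabilizer_iff, ← e_none, ← fdef]
        congr 1
        rw [hwo]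
        show tMap m k a b νi (addc (-u) (tMap m k a b νi (some (0 + (j : ZMod p))))) = none
        rw [zero_add, hu]
        simp [addc, tMap]
      obtain ⟨c, i, hci⟩ := hN w hwP
      refine affineSq_of_eq (s := r ^ i) (c := c) (by rw [← pow_mul, mul_comm, pow_mul, hrm, one_pow]) fun v => ?_
      rw [← hwo, hci, map_mul, Equiv.Perm.mul_apply, hfyp, hfxp]
      rfl
  refine ⟨f, x, y, t, k, a, b, finj, ?_, hfx, hfy, hft, hk, hkk, hty, haν, hgood⟩
  -- generation
  set S := Subgroup.closure ({x, y, t} : Set G)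
  have hxS : x ∈ S := Subgroup.subset_closure (by simp)
  have hyS : y ∈ S := Subgroup.subset_closure (by simp)
  have htS : t ∈ S := Subgroup.subset_closure (by simp)
  have hNS : MulAction.stabilizer G P ≤ S := fun w hw => by
    obtain ⟨c, j, rfl⟩ := hN w hw
    exact S.mul_mem (S.pow_mem hxS _) (S.pow_mem hyS j)
  refine eq_top_iff.mpr fun w _ => ?_
  obtain ⟨o, ho⟩ := e.surjective (w • P)
  obtain ⟨v, hv, hvP⟩ : ∃ v ∈ S, v • P = e o := by
    rcases o with _ | i
    · exact ⟨1, S.one_mem, one_smul _ _⟩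
    · exact ⟨xp i * t, S.mul_mem (S.pow_mem hxS _) htS, by rw [mul_smul, tP]; rfl⟩
  have : v⁻¹ * w ∈ S := hNS (by
    rw [MulAction.mem_stabilizer_iff, mul_smul, ← ho, ← hvP, inv_smul_smul])
  simpa using S.mul_mem hv this

/-- Two simple groups with the same parameters are isomorphic, provided the test leaves one candidate. -/
theorem mulEquiv_of_goodT [IsSimpleGroup G] {H : Type*} [Group H] [Finite H] [IsSimpleGroup H]
    {m : ℕ} (hcard : Nat.card G = p * ((p + 1) * m)) (hcard' : Nat.card H = p * ((p + 1) * m))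
    (hm : ¬ p ∣ (p + 1) * m) (hn : Nat.card (Sylow p G) = p + 1) (hn' : Nat.card (Sylow p H) = p + 1)
    (r ν νi : ZMod p) (hrm : r ^ m = 1) (hνi : ν * νi = 1)
    (hroots : ∀ i : ZMod p, i ^ m = 1 → ∃ j < m, i = r ^ j)
    (hrep : ∀ i : ZMod p, i ≠ 0 → i ^ m = 1 ∨ (i * νi) ^ m = 1)
    (P : ℕ → Prop)
    (hP : ∀ (f : G →* Equiv.Perm (Option (ZMod p))) (y t : G) (k : ℕ), Function.Injective f →
      (∀ o, f y o = o.map (fun i => r * i)) → f t none = some 0 → f t (some 0) = none →
      t * y * t⁻¹ = y ^ k → P k)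
    (hP' : ∀ (f : H →* Equiv.Perm (Option (ZMod p))) (y t : H) (k : ℕ), Function.Injective f →
      (∀ o, f y o = o.map (fun i => r * i)) → f t none = some 0 → f t (some 0) = none →
      t * y * t⁻¹ = y ^ k → P k)
    (k₀ : ℕ) (a₀ b₀ : ZMod p)
    (huniq : ∀ k < m, r ^ (k * k) = r → P k → ∀ a b : ZMod p, (a = 1 ∨ a = ν) →
      goodT m k a b νi = true → k = k₀ ∧ a = a₀ ∧ b = b₀) :
    Nonempty (G ≃* H) := by
  obtain ⟨f, x, y, t, k, a, b, fi, fg, fx, fy, ft, hk, hkk, hty, ha, hg⟩ :=
    exists_embedding hcard hm hn r ν νi hrm hνi hroots hrep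
  obtain ⟨f', x', y', t', k', a', b', fi', fg', fx', fy', ft', hk', hkk', hty', ha', hg'⟩ :=
    exists_embedding hcard' hm hn' r ν νi hrm hνi hroots hrep
  obtain ⟨rfl, rfl, rfl⟩ := huniq k hk hkk
    (hP f y t k fi fy (by rw [ft]; rfl) (by rw [ft]; simp [tMap]) hty) a b ha hg
  obtain ⟨rfl, rfl, rfl⟩ := huniq k' hk' hkk'
    (hP' f' y' t' k' fi' fy' (by rw [ft']; rfl) (by rw [ft']; simp [tMap]) hty') a' b' ha' hg'
  have heq : f.range = f'.range := by
    rw [MonoidHom.range_eq_map, MonoidHom.range_eq_map, ← fg, ← fg', MonoidHom.map_closure,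
      MonoidHom.map_closure, Set.image_insert_eq, Set.image_insert_eq, Set.image_singleton,
      Set.image_insert_eq, Set.image_insert_eq, Set.image_singleton,
      show f x = f' x' from Equiv.ext fun o => (fx o).trans (fx' o).symm,
      show f y = f' y' from Equiv.ext fun o => (fy o).trans (fy' o).symm,
      show f t = f' t' from Equiv.ext fun o => (ft o).trans (ft' o).symm]
  exact ⟨(MonoidHom.ofInjective fi).trans
    ((MulEquiv.subgroupCongr heq).trans (MonoidHom.ofInjective fi').symm)⟩

/-- The number of Sylow subgroups, when only `1` and `p + 1` are possible. -/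
theorem card_sylow_eq_succ [IsSimpleGroup G] {m : ℕ} (hcard : Nat.card G = p * ((p + 1) * m))
    (hm : ¬ p ∣ (p + 1) * m) (hdiv : ∀ d ∈ ((p + 1) * m).divisors, d % p = 1 → d = 1 ∨ d = p + 1) :
    Nat.card (Sylow p G) = p + 1 := by
  have hp' := hp.out
  obtain ⟨P⟩ : Nonempty (Sylow p G) := inferInstance
  have hP : Nat.card (P : Subgroup G) = p := by
    rw [Cfsg.Agent.Lib.SylowCounting.sylow_card (k := 1) (m := (p + 1) * m) (by rw [pow_one]; exact hcard) hm P,
      pow_one]
  have h1 : Nat.card (Sylow p G) ∣ (p + 1) * m := by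
    have h2 := Sylow.card_dvd_index P
    have h3 := (P : Subgroup G).card_mul_index
    rw [hP, hcard] at h3
    rwa [Nat.eq_of_mul_eq_mul_left hp'.pos h3] at h2
  have h4 : Nat.card (Sylow p G) % p = 1 := by
    have := card_sylow_modEq_one p G
    rwa [Nat.ModEq, Nat.one_mod_eq_one.mpr hp'.ne_one] at this
  have hne : (p + 1) * m ≠ 0 := fun h => hm (h ▸ dvd_zero p)
  refine (hdiv _ (Nat.mem_divisors.mpr ⟨h1, hne⟩) h4).resolve_left fun h => ?_
  -- otherwise the Sylow subgroup is normal
  have hn : (P : Subgroup G).Normal := by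
    rw [← Subgroup.normalizer_eq_top_iff, ← Subgroup.index_eq_one]
    have h5 := Sylow.card_eq_index_normalizer P
    rw [h] at h5
    exact h5.symm
  rcases hn.eq_bot_or_eq_top with hb | ht
  · rw [hb, Subgroup.card_bot] at hP; exact hp'.ne_one hP.symm
  · rw [ht, Subgroup.card_top, hcard] at hP
    have : (p + 1) * m = 1 := Nat.eq_of_mul_eq_mul_left hp'.pos (hP.trans (mul_one p).symm)
    have := Nat.eq_one_of_mul_eq_one_right this
    have := hp'.two_le
    omega

end Cfsg.Agent.Lib.Classification
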