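import Mathlib
import Cfsg.Prelude.Def_Quasithin
import Cfsg.Agent.Lib.Components.Quasisimple

/-!
# Perfect subnormal subgroups
-/

set_option autoImplicit false

namespace Cfsg.Agent.Lib.Classification

variable {G : Type*} [Group G]

theorem commutator_self_subgroupOf {L H : Subgroup G} (h : L ≤ H) (hL : ⁅L, L⁆ = L) :
    ⁅L.subgroupOf H, L.subgroupOf H⁆ = L.subgroupOf H := by
  apply Subgroup.map_injective H.subtype_injective
  rw [Subgroup.map_commutator, Subgroup.subgroupOf_map_subtype, inf_eq_left.mpr h, hL]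

theorem commutator_self_map {L : Subgroup G} (hL : ⁅L, L⁆ = L) {G' : Type*} [Group G'] (f : G →* G') :
    ⁅L.map f, L.map f⁆ = L.map f := by
  rw [← Subgroup.map_commutator, hL]

/-- A solvable subgroup `R` normalized by the perfect subgroup `L`, with `L` subnormal in
`L ⊔ R`, normalizes `L`. -/
theorem le_normalizer_of_perfect_subnormal [Finite G] {L R : Subgroup G} (hL : ⁅L, L⁆ = L)
    (hR : Group.IsSolvable ↥R) (hLR : L ≤ Subgroup.normalizer (R : Set G))
    (hsn : (L.subgroupOf (L ⊔ R)).IsSubnormal) : R ≤ Subgroup.normalizer (L : Set G) := by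
  suffices h : ∀ (n : ℕ) (X : Subgroup G), Nat.card X = n → L ≤ X → X ≤ L ⊔ R →
      (L.subgroupOf X).IsSubnormal → X ≤ Subgroup.normalizer (L : Set G) from
    le_sup_right.trans (h _ _ rfl le_sup_left le_rfl hsn)
  intro n
  induction n using Nat.strong_induction_on with
  | _ n ih =>
    intro X hn hLX hXLR hXsn
    by_cases htop : L.subgroupOf X = ⊤
    · exact (Subgroup.subgroupOf_eq_top.mp htop).trans Subgroup.le_normalizer
    obtain ⟨M, hMn, hLM, hMlt⟩ := hXsn.exists_normal_and_le_and_lt_top_of_ne htop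
    haveI := hMn
    set M' := M.map X.subtype with hM'
    have hLM' : L ≤ M' := fun l hl => ⟨⟨l, hLX hl⟩, hLM hl, rfl⟩
    have hM'X : M' ≤ X := Subgroup.map_subtype_le M
    have hcard : Nat.card M' < n := by
      rw [hM', Subgroup.card_map_of_injective X.subtype_injective, ← hn]
      exact lt_of_le_of_ne (Subgroup.card_le_card_group M)
        (fun e => hMlt.ne ((Subgroup.card_eq_iff_eq_top M).mp e))
    have hsnM : (L.subgroupOf M').IsSubnormal :=
      hXsn.comap (Subgroup.inclusion hM'X)
    have hIH := ih _ hcard M' rfl hLM' (hM'X.trans hXLR) hsnM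
    haveI : (L.subgroupOf M').Normal := (Subgroup.normal_subgroupOf_iff_le_normalizer hLM').mpr hIH
    -- the quotient `M'/L` is solvable
    haveI : Group.IsSolvable ↥(R ⊓ M') :=
      have := hR
      Group.isSolvable_of_isSolvable_injective (Subgroup.inclusion_injective (inf_le_left : R ⊓ M' ≤ R))
    have hQ : Group.IsSolvable (↥M' ⧸ L.subgroupOf M') := by
      refine Group.isSolvable_of_surjective
        (f := (QuotientGroup.mk' (L.subgroupOf M')).comp (Subgroup.inclusion inf_le_right : ↥(R ⊓ M') →* ↥M')) ?_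
      intro q
      obtain ⟨m, rfl⟩ := QuotientGroup.mk'_surjective _ q
      have hm : (m : G) ∈ ((L ⊔ R : Subgroup G) : Set G) := hXLR (hM'X m.2)
      rw [Subgroup.coe_mul_of_left_le_normalizer_right L R hLR] at hm
      obtain ⟨l, hl, r, hr, hlr⟩ := hm
      have hlr' : r = l⁻¹ * m := by rw [← hlr]; group
      have hrM : r ∈ M' := hlr' ▸ M'.mul_mem (M'.inv_mem (hLM' hl)) m.2
      refine ⟨⟨r, hr, hrM⟩, ?_⟩
      show QuotientGroup.mk' (L.subgroupOf M') ⟨r, hrM⟩ = QuotientGroup.mk' _ m
      refine QuotientGroup.eq.mpr ?_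
      rw [Subgroup.mem_subgroupOf]
      push_cast
      -- `r⁻¹ m` lies in `L` as `L` is normal in `M'`
      have hmn := (Subgroup.mem_set_normalizer_iff.mp
        ((Subgroup.normalizer (L : Set G)).inv_mem (hIH m.2)) l).mp hl
      rw [hlr']
      simpa [mul_assoc] using hmn
    intro x hx
    have hconj : L.map (MulAut.conj x).toMonoidHom ≤ M' := by
      rintro _ ⟨l, hl, rfl⟩
      exact ⟨_, hMn.conj_mem _ (hLM (show (⟨l, hLX hl⟩ : X) ∈ L.subgroupOf X from hl)) ⟨x, hx⟩,
        by simp⟩
    have hP : ((L.map (MulAut.conj x).toMonoidHom).subgroupOf M').map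
        (QuotientGroup.mk' (L.subgroupOf M')) = ⊥ :=
      Lib.Components.eq_bot_of_perfect_solvable
        (commutator_self_map (commutator_self_subgroupOf hconj (commutator_self_map hL _)) _)
        (Group.isSolvable_of_isSolvable_injective (f := Subgroup.subtype _) (Subgroup.subtype_injective _))
    have hle : L.map (MulAut.conj x).toMonoidHom ≤ L := by
      intro y hy
      have : QuotientGroup.mk' (L.subgroupOf M') ⟨y, hconj hy⟩ ∈ (⊥ : Subgroup _) := by
        rw [← hP]; exact ⟨⟨y, hconj hy⟩, hy, rfl⟩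
      rw [Subgroup.mem_bot] at this
      exact (QuotientGroup.eq_one_iff (N := L.subgroupOf M') ⟨y, hconj hy⟩).mp this
    rw [Subgroup.mem_normalizer_iff_map_conj_eq]
    exact Subgroup.eq_of_le_of_card_ge hle
      (Subgroup.card_map_of_injective (MulAut.conj x).injective).ge

/-- A perfect finite subgroup is generated by its elements of odd order. -/
theorem oddGenerated_eq_self_of_perfect [Finite G] {K : Subgroup G} (hK : ⁅K, K⁆ = K) :
    Cfsg.oddGenerated K = K := by
  haveI : Fact (Nat.Prime 2) := ⟨Nat.prime_two⟩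
  have hle : Cfsg.oddGenerated K ≤ K := (Subgroup.closure_le K).mpr fun x hx => hx.1
  haveI hnorm : ((Cfsg.oddGenerated K).subgroupOf K).Normal := by
    rw [Subgroup.normal_subgroupOf_iff_le_normalizer hle]
    refine le_trans ?_ (Subgroup.normalizer_le_normalizer_closure _)
    rw [Subgroup.le_set_normalizer_iff]
    rintro k hk x ⟨hxK, hxo⟩
    refine ⟨K.mul_mem (K.mul_mem hk hxK) (K.inv_mem hk), ?_⟩
    have h := orderOf_injective (MulAut.conj k).toMonoidHom (MulAut.conj k).injective x
    simp only [MulEquiv.coe_toMonoidHom, MulAut.conj_apply] at h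
    rw [h]; exact hxo
  have hp : IsPGroup 2 (↥K ⧸ (Cfsg.oddGenerated K).subgroupOf K) := by
    intro q
    obtain ⟨x, rfl⟩ := QuotientGroup.mk'_surjective _ q
    obtain ⟨k, m, hm, hkm⟩ := Nat.exists_eq_two_pow_mul_odd (orderOf_pos x).ne'
    refine ⟨k, ?_⟩
    rw [← map_pow]
    refine (QuotientGroup.eq_one_iff _).mpr ?_
    refine Subgroup.subset_closure ⟨(x ^ 2 ^ k).2, ?_⟩
    show Odd (orderOf ((x ^ 2 ^ k : ↥K) : G))
    rw [Subgroup.orderOf_coe, orderOf_pow_of_dvd (by positivity) (hkm ▸ dvd_mul_right _ m), hkm,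
      Nat.mul_div_cancel_left _ (by positivity)]
    exact hm
  haveI := hp.isNilpotent
  haveI : Group.IsPerfect ↥K := Subgroup.isPerfect_iff.mpr hK
  haveI : Group.IsPerfect (↥K ⧸ (Cfsg.oddGenerated K).subgroupOf K) :=
    Group.IsPerfect.ofSurjective (f := QuotientGroup.mk' _) (QuotientGroup.mk'_surjective _)
  have := Lib.Components.subsingleton_of_perfect_solvable
    (X := ↥K ⧸ (Cfsg.oddGenerated K).subgroupOf K) inferInstance
  exact le_antisymm hle fun x hx =>
    (QuotientGroup.eq_one_iff (N := (Cfsg.oddGenerated K).subgroupOf K) ⟨x, hx⟩).mp (Subsingleton.elim _ _)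

end Cfsg.Agent.Lib.Classification
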