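import Mathlib
import Cfsg.Prelude.Def_ClassificationK
import Cfsg.Agent.Lib.Classification.CharTwoType

/-!
# Elementary facts about 2-groups of symplectic type as `F*(C(z))`
-/

set_option autoImplicit false

namespace Cfsg.Agent.Lib.Classification

variable {G : Type*} [Group G] [Finite G]

theorem eq_of_involutions_of_isCyclic {H : Type*} [Group H] [Finite H] [IsCyclic H] {x y : H}
    (hx : orderOf x = 2) (hy : orderOf y = 2) : x = y := by
  classical
  letI := Fintype.ofFinite H
  by_contra hne
  have hle := IsCyclic.card_pow_eq_one_le (α := H) (n := 2) two_pos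
  have hsub : ({1, x, y} : Finset H) ⊆ Finset.univ.filter (fun a : H => a ^ 2 = 1) := by
    intro a ha
    simp only [Finset.mem_insert, Finset.mem_singleton] at ha
    rcases ha with rfl | rfl | rfl
    · simp
    · simp [← hx, pow_orderOf_eq_one]
    · simp [← hy, pow_orderOf_eq_one]
  have hx1 : (1 : H) ∉ ({x, y} : Finset H) := by
    simp only [Finset.mem_insert, Finset.mem_singleton]
    rintro (h | h)
    · simp [← h] at hx
    · simp [← h] at hy
  have h3 : ({1, x, y} : Finset H).card = 3 := by
    rw [Finset.card_insert_of_notMem hx1, Finset.card_pair hne]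
  have := Finset.card_le_card hsub
  omega

/-- A nontrivial normal subgroup of a finite 2-group contains a central involution. -/
theorem exists_central_involution_of_normal {H : Type*} [Group H] [Finite H] (hH : IsPGroup 2 H)
    (B : Subgroup H) [B.Normal] (hne : B ≠ ⊥) :
    ∃ c ∈ B, orderOf c = 2 ∧ c ∈ Subgroup.center H := by
  haveI : Fact (Nat.Prime 2) := ⟨Nat.prime_two⟩
  letI : MulAction H B :=
    { smul := fun h b => ⟨h * b * h⁻¹, Subgroup.Normal.conj_mem inferInstance _ b.2 h⟩
      one_smul := fun b => Subtype.ext (by show (1 : H) * b * 1⁻¹ = b; simp)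
      mul_smul := fun g h b => Subtype.ext (by
        show g * h * b * (g * h)⁻¹ = g * (h * b * h⁻¹) * g⁻¹; group) }
  have hdvd : 2 ∣ Nat.card B := by
    obtain ⟨t, htB, ht⟩ := exists_involution_mem (hH.to_subgroup B) hne
    have := orderOf_dvd_natCard (⟨t, htB⟩ : B)
    rwa [← Subgroup.orderOf_coe, ht] at this
  have hone : (1 : B) ∈ MulAction.fixedPoints H B := fun h => Subtype.ext (by
    show h * 1 * h⁻¹ = 1; simp)
  obtain ⟨b, hb, hb1⟩ := hH.exists_fixed_point_of_prime_dvd_card_of_fixed_point B hdvd hone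
  have hbc : (b : H) ∈ B ⊓ Subgroup.center H := ⟨b.2, Subgroup.mem_center_iff.mpr fun h => by
    have := congrArg Subtype.val (hb h)
    exact mul_inv_eq_iff_eq_mul.mp this⟩
  obtain ⟨c, hc, hc2⟩ := exists_involution_mem (hH.to_subgroup (B ⊓ Subgroup.center H)) (fun e => by
    rw [e, Subgroup.mem_bot] at hbc
    exact hb1 (Subtype.ext hbc.symm))
  exact ⟨c, hc.1, hc2, hc.2⟩

/-- If `F*(C(z))` is a 2-group then it contains `z`. -/
theorem mem_genFitting_centralizer (z : G) :
    (⟨z, Subgroup.mem_centralizer_singleton_iff.mpr rfl⟩ : ↥(Subgroup.centralizer ({z} : Set G))) ∈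
      Cfsg.generalizedFittingSubgroup ↥(Subgroup.centralizer ({z} : Set G)) := by
  refine Lib.Components.fitting_le_genFitting (Lib.Cores.center_le_fittingSubgroup ?_)
  rw [Subgroup.mem_center_iff]
  exact fun g => Subtype.ext (Subgroup.mem_centralizer_singleton_iff.mp g.2)

/-- In symplectic type the involution `z` lies in every nontrivial characteristic abelian
subgroup of `F*(C(z))`, and it is the only involution there. -/
theorem eq_z_of_char_abelian (z : G) (hz : orderOf z = 2)
    (hQ : Cfsg.IsOfSymplecticType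
      ↥(Cfsg.generalizedFittingSubgroup ↥(Subgroup.centralizer ({z} : Set G))))
    (B : Subgroup ↥(Cfsg.generalizedFittingSubgroup ↥(Subgroup.centralizer ({z} : Set G))))
    (hBc : B.Characteristic) (hBa : IsMulCommutative ↥B) {b : ↥B} (hb : orderOf b = 2) :
    ((b : ↥(Cfsg.generalizedFittingSubgroup ↥(Subgroup.centralizer ({z} : Set G)))) :
      ↥(Subgroup.centralizer ({z} : Set G))) = ⟨z, Subgroup.mem_centralizer_singleton_iff.mpr rfl⟩ := by
  haveI : Fact (Nat.Prime 2) := ⟨Nat.prime_two⟩
  haveI := hQ.2 B hBc hBa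
  haveI := hBc
  -- a nontrivial normal subgroup of a 2-group contains a central involution
  obtain ⟨c, hcB, hc2, hcc⟩ : ∃ c : ↥(Cfsg.generalizedFittingSubgroup ↥(Subgroup.centralizer ({z} : Set G))), c ∈ B ∧ orderOf c = 2 ∧ c ∈ Subgroup.center ↥(Cfsg.generalizedFittingSubgroup ↥(Subgroup.centralizer ({z} : Set G))) := by
    have hne : B ≠ ⊥ := by
      rintro rfl
      have : b = 1 := Subtype.ext (Subgroup.mem_bot.mp b.2)
      simp [this] at hb
    haveI : B.Normal := Subgroup.normal_of_characteristic B
    exact exists_central_involution_of_normal hQ.1 B hne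
  haveI := hQ.2 (Subgroup.center ↥(Cfsg.generalizedFittingSubgroup ↥(Subgroup.centralizer ({z} : Set G)))) inferInstance inferInstance
  let z₀ : ↥(Cfsg.generalizedFittingSubgroup ↥(Subgroup.centralizer ({z} : Set G))) := ⟨_, mem_genFitting_centralizer z⟩
  have hz₀ : z₀ ∈ Subgroup.center ↥(Cfsg.generalizedFittingSubgroup ↥(Subgroup.centralizer ({z} : Set G))) := by
    rw [Subgroup.mem_center_iff]
    exact fun g => Subtype.ext (Subtype.ext (Subgroup.mem_centralizer_singleton_iff.mp g.1.2))
  have hz₀2 : orderOf z₀ = 2 := by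
    rw [← Subgroup.orderOf_coe, ← Subgroup.orderOf_coe]; exact hz
  have e1 : (⟨c, hcc⟩ : Subgroup.center ↥(Cfsg.generalizedFittingSubgroup ↥(Subgroup.centralizer ({z} : Set G)))) = ⟨z₀, hz₀⟩ :=
    eq_of_involutions_of_isCyclic (by rw [← Subgroup.orderOf_coe]; exact hc2)
      (by rw [← Subgroup.orderOf_coe]; exact hz₀2)
  have e2 : b = (⟨c, hcB⟩ : ↥B) :=
    eq_of_involutions_of_isCyclic hb (by rw [← Subgroup.orderOf_coe]; exact hc2)
  rw [e2]
  show ((c : ↥(Cfsg.generalizedFittingSubgroup ↥(Subgroup.centralizer ({z} : Set G)))) : ↥(Subgroup.centralizer ({z} : Set G))) = _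
  rw [show c = z₀ from congrArg Subtype.val e1]

end Cfsg.Agent.Lib.Classification
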