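import Cfsg.Agent.Lib.Classification.Symplectic
import Cfsg.Agent.Lib.Classification.Basic

/-!
# 2-groups of exponent 4 whose characteristic abelian subgroups are cyclic
-/

set_option autoImplicit false

open scoped commutatorElement

namespace Cfsg.Agent.Lib.Classification

theorem comm_eq_sq {H : Type*} [Group H] (x y : H) :
    x * y * x⁻¹ * y⁻¹ = (x * y) ^ 2 * (y⁻¹ * (x ^ 2)⁻¹ * y) * (y ^ 2)⁻¹ := by
  simp only [pow_two]; group

/-- In a finite `2`-group of exponent dividing `4` whose characteristic abelian subgroups are cyclic,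
all squares lie in one central subgroup of order at most `2`. -/
theorem squares_central : ∀ n : ℕ, ∀ (H : Type*) [Group H] [Finite H], Nat.card H = n →
    IsPGroup 2 H → (∀ A : Subgroup H, A.Characteristic → IsMulCommutative ↥A → IsCyclic ↥A) →
    (∀ x : H, x ^ 4 = 1) →
    ∃ e ∈ Subgroup.center H, e * e = 1 ∧ ∀ x : H, x ^ 2 = 1 ∨ x ^ 2 = e := by
  intro n
  induction n using Nat.strong_induction_on with
  | _ n ih =>
    intro H _ _ hn hH hcyc h4
    haveI : Fact (Nat.Prime 2) := ⟨Nat.prime_two⟩
    haveI hZcyc : IsCyclic ↥(Subgroup.center H) := hcyc _ inferInstance inferInstance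
    by_cases hD : commutator H ≤ Subgroup.center H
    · have hcomm2 : ∀ x y : H, (x * y * x⁻¹ * y⁻¹) ^ 2 = 1 := by
        intro x y
        set c := x * y * x⁻¹ * y⁻¹ with hc
        have hcz : c ∈ Subgroup.center H := hD (by
          rw [commutator_def, hc]
          exact Subgroup.commutator_mem_commutator (Subgroup.mem_top x) (Subgroup.mem_top y))
        have k : ∀ g, g * c = c * g := Subgroup.mem_center_iff.mp hcz
        have e1 : (x * y) ^ 2 = c * (y * (x ^ 2 * y)) := by
          rw [hc]; simp only [pow_two]; group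
        have hswap : ∀ g, x * g = x * g := fun _ => rfl
        -- `(x y)^4 = c^2 * x^4 * y^4`
        have e2 : x * y = c * (y * x) := by rw [hc]; group
        have e3 : (x * y) ^ 2 = c⁻¹ * (x ^ 2 * y ^ 2) := by
          calc (x * y) ^ 2 = x * (y * x) * y := by rw [pow_two]; group
            _ = x * (c⁻¹ * (x * y)) * y := by rw [e2]; group
            _ = c⁻¹ * (x ^ 2 * y ^ 2) := by
              have : Commute x c⁻¹ := (show Commute x c from k x).inv_right
              rw [← mul_assoc x, this.eq]; simp only [pow_two]; group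
        have hx2c : Commute (x ^ 2) (y ^ 2) := by
          have e4 : x ^ 2 * y = c ^ 2 * (y * x ^ 2) := by
            calc x ^ 2 * y = x * (x * y) := by rw [pow_two]; group
              _ = (x * c) * (y * x) := by rw [e2]; group
              _ = c * (x * y) * x := by rw [k x]; group
              _ = c * (c * (y * x)) * x := by rw [e2]
              _ = c ^ 2 * (y * x ^ 2) := by simp only [pow_two]; group
          have hc4 : (c ^ 2) * c ^ 2 = 1 := by rw [← pow_add]; exact h4 c
          show x ^ 2 * y ^ 2 = y ^ 2 * x ^ 2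
          have k2 : Commute y (c ^ 2) := (show Commute y c from k y).pow_right 2
          calc x ^ 2 * y ^ 2 = (x ^ 2 * y) * y := by rw [pow_two y, mul_assoc]
            _ = c ^ 2 * y * (x ^ 2 * y) := by nth_rewrite 1 [e4]; group
            _ = c ^ 2 * (y * c ^ 2) * (y * x ^ 2) := by rw [e4]; group
            _ = c ^ 2 * c ^ 2 * (y * y * x ^ 2) := by rw [k2.eq]; group
            _ = y ^ 2 * x ^ 2 := by rw [hc4, one_mul, pow_two y]
        have e5 : (x * y) ^ 4 = c⁻¹ ^ 2 * ((x ^ 2) ^ 2 * (y ^ 2) ^ 2) := by
          rw [show (4 : ℕ) = 2 * 2 from rfl, pow_mul, e3,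
            (show Commute c⁻¹ (x ^ 2 * y ^ 2) from (show Commute (x ^ 2 * y ^ 2) c from k _).symm.inv_left).mul_pow,
            hx2c.mul_pow]
        rw [h4, ← pow_mul, ← pow_mul, h4, h4, mul_one, mul_one, inv_pow] at e5
        exact inv_eq_one.mp e5.symm
      have hsqc : ∀ x : H, x ^ 2 ∈ Subgroup.center H := by
        intro x
        rw [Subgroup.mem_center_iff]
        intro g
        set c := x * g * x⁻¹ * g⁻¹ with hc
        have hcz : c ∈ Subgroup.center H := hD (by
          rw [commutator_def, hc]
          exact Subgroup.commutator_mem_commutator (Subgroup.mem_top x) (Subgroup.mem_top g))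
        have k : ∀ g, g * c = c * g := Subgroup.mem_center_iff.mp hcz
        have e2 : x * g = c * (g * x) := by rw [hc]; group
        symm
        calc x ^ 2 * g = x * (x * g) := by rw [pow_two]; group
          _ = (x * c) * (g * x) := by rw [e2]; group
          _ = c * (x * g) * x := by rw [k x]; group
          _ = c * c * (g * (x * x)) := by rw [e2]; group
          _ = g * x ^ 2 := by rw [← pow_two c, hcomm2, one_mul, pow_two]
      by_cases hex : ∃ x : H, x ^ 2 ≠ 1
      · obtain ⟨x, hx⟩ := hex
        have hord : ∀ y : H, y ^ 2 ≠ 1 → orderOf (⟨y ^ 2, hsqc y⟩ : ↥(Subgroup.center H)) = 2 := by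
          intro y hy
          rw [← Subgroup.orderOf_coe]
          exact orderOf_eq_prime (by rw [← pow_mul]; exact h4 y) hy
        refine ⟨x ^ 2, hsqc x, by rw [← pow_add]; exact h4 x, fun y => or_iff_not_imp_left.mpr fun hy => ?_⟩
        exact congrArg Subtype.val
          (Cfsg.Agent.Lib.Classification.eq_of_involutions_of_isCyclic (hord y hy) (hord x hx))
      · push_neg at hex
        exact ⟨1, Subgroup.one_mem _, one_mul _, fun x => Or.inl (hex x)⟩
    · exfalso
      -- a characteristic cyclic subgroup of order 4 in the derived subgroup, not central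
      set Z2 := Subgroup.upperCentralSeries H 2
      have hZ2 : ∀ w ∈ Z2, ∀ h : H, w * h * w⁻¹ * h⁻¹ ∈ Subgroup.center H := by
        intro w hw h
        have := (Subgroup.mem_upperCentralSeries_succ_iff (n := 1) (x := w)).mp hw h
        simpa [commutatorElement_def] using this
      set U := commutator H ⊓ Z2
      haveI : U.Characteristic := Cfsg.Agent.Lib.Cores.characteristic_of_map_le (fun e => by
        rw [Subgroup.map_inf _ _ _ e.injective]
        exact inf_le_inf (by rw [Subgroup.characteristic_iff_map_eq.mp inferInstance e])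
          (by rw [Subgroup.characteristic_iff_map_eq.mp inferInstance e]))
      have hUD : ∀ w ∈ Z2, ∀ d ∈ commutator H, d * w = w * d := by
        intro w hw d hd
        let f : H →* ↥(Subgroup.center H) :=
          { toFun := fun h => ⟨w * h * w⁻¹ * h⁻¹, hZ2 w hw h⟩
            map_one' := Subtype.ext (by simp)
            map_mul' := fun a b => Subtype.ext (by
              show w * (a * b) * w⁻¹ * (a * b)⁻¹ = w * a * w⁻¹ * a⁻¹ * (w * b * w⁻¹ * b⁻¹)
              have := Subgroup.mem_center_iff.mp (hZ2 w hw b) a
              calc w * (a * b) * w⁻¹ * (a * b)⁻¹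
                  = w * a * w⁻¹ * a⁻¹ * (a * (w * b * w⁻¹ * b⁻¹)) * a⁻¹ := by group
                _ = w * a * w⁻¹ * a⁻¹ * ((w * b * w⁻¹ * b⁻¹) * a) * a⁻¹ := by rw [this]
                _ = _ := by group) }
        have hk : d ∈ f.ker := by
          have hle : commutator H ≤ f.ker := by
            rw [commutator_def, Subgroup.commutator_le]
            intro a _ b _
            rw [MonoidHom.mem_ker, map_commutatorElement, commutatorElement_eq_one_iff_commute]
            exact Subtype.ext (Subgroup.mem_center_iff.mp (f b).2 (f a : H))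
          exact hle hd
        have : w * d * w⁻¹ * d⁻¹ = 1 := congrArg Subtype.val (MonoidHom.mem_ker.mp hk)
        calc d * w = 1 * (d * w) := (one_mul _).symm
          _ = w * d * w⁻¹ * d⁻¹ * (d * w) := by rw [this]
          _ = w * d := by group
      haveI : IsMulCommutative ↥U := ⟨⟨fun a b => Subtype.ext (hUD _ b.2.2 _ a.2.1)⟩⟩
      haveI : IsCyclic ↥U := hcyc U inferInstance inferInstance
      obtain ⟨⟨u, huU⟩, hgen⟩ := IsCyclic.exists_generator (α := ↥U)
      have hUz : ∀ w ∈ U, ∃ k : ℤ, w = u ^ k := by
        intro w hw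
        obtain ⟨k, hk⟩ := Subgroup.mem_zpowers_iff.mp (hgen ⟨w, hw⟩)
        exact ⟨k, by simpa using congrArg Subtype.val hk.symm⟩
      -- `U` is not central
      have hunc : u ∉ Subgroup.center H := by
        intro hu
        apply hD
        set f := QuotientGroup.mk' (Subgroup.center H) with hf
        have hbot : (commutator H).map f = ⊥ := by
          by_contra hne
          haveI : ((commutator H).map f).Normal :=
            Subgroup.Normal.map inferInstance f (QuotientGroup.mk'_surjective _)
          obtain ⟨c, hc, hc2, hcc⟩ :=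
            Cfsg.Agent.Lib.Classification.exists_central_involution_of_normal (hH.to_quotient _) _ hne
          obtain ⟨d, hd, rfl⟩ := hc
          have hdZ : d ∈ Z2 := by
            refine (Subgroup.mem_upperCentralSeries_succ_iff (n := 1)).mpr fun h => ?_
            have := Subgroup.mem_center_iff.mp hcc (f h)
            rw [Subgroup.upperCentralSeries_one, commutatorElement_def]
            refine (QuotientGroup.eq_one_iff _).mp ?_
            show f (d * h * d⁻¹ * h⁻¹) = 1
            rw [map_mul, map_mul, map_mul, map_inv, map_inv, ← this]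
            group
          obtain ⟨k, rfl⟩ := hUz d ⟨hd, hdZ⟩
          have : f (u ^ k) = 1 := (QuotientGroup.eq_one_iff _).mpr (Subgroup.zpow_mem _ hu k)
          simp [this] at hc2
        intro d hd
        have : f d ∈ (⊥ : Subgroup (H ⧸ Subgroup.center H)) := hbot ▸ Subgroup.mem_map_of_mem f hd
        exact (QuotientGroup.eq_one_iff _).mp (Subgroup.mem_bot.mp this)
      have hu4 : u ^ 4 = 1 := h4 u
      have hu2 : u ^ 2 ≠ 1 := by
        intro h
        apply hunc
        rw [Subgroup.mem_center_iff]
        intro g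
        have hmem : g * u * g⁻¹ ∈ U := (inferInstance : U.Normal).conj_mem u huU g
        obtain ⟨k, hk⟩ := hUz _ hmem
        rcases Int.even_or_odd k with ⟨m, rfl⟩ | ⟨m, rfl⟩
        · exfalso
          rw [zpow_add, ← (show Commute (u ^ m) (u ^ m) from Commute.refl _).eq, ← zpow_add] at hk
          rw [show m + m = 2 * m by ring, zpow_mul, zpow_ofNat, h, one_zpow] at hk
          have : u = 1 := by simpa [mul_assoc] using congrArg (fun t => g⁻¹ * t * g) hk
          exact hunc (this ▸ Subgroup.one_mem _)
        · rw [zpow_add, zpow_mul, zpow_ofNat, h, one_zpow, one_mul, zpow_one] at hk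
          exact mul_inv_eq_iff_eq_mul.mp hk
      have hpow : ∀ w ∈ U, w = 1 ∨ w = u ∨ w = u ^ 2 ∨ w = u⁻¹ := by
        intro w hw
        obtain ⟨k, rfl⟩ := hUz w hw
        have hz : u ^ (4 : ℤ) = 1 := by rw [zpow_ofNat]; exact hu4
        have : u ^ k = u ^ (k % 4) := by
          conv_lhs => rw [← Int.emod_add_mul_ediv k 4, zpow_add, zpow_mul, hz, one_zpow, mul_one]
        rw [this]
        have h0 := Int.emod_nonneg k (by norm_num : (4 : ℤ) ≠ 0)
        have h1 := Int.emod_lt_of_pos k (by norm_num : (0 : ℤ) < 4)
        have hu3 : u ^ 3 = u⁻¹ := eq_inv_of_mul_eq_one_left (by rw [← pow_succ]; exact hu4)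
        interval_cases h2 : k % 4
        · exact Or.inl (zpow_zero u)
        · exact Or.inr (Or.inl (zpow_one u))
        · exact Or.inr (Or.inr (Or.inl (zpow_ofNat u 2)))
        · exact Or.inr (Or.inr (Or.inr (by rw [zpow_ofNat, hu3])))
      have hconj : ∀ g : H, g * u * g⁻¹ = u ∨ g * u * g⁻¹ = u⁻¹ := by
        intro g
        rcases hpow _ ((inferInstance : U.Normal).conj_mem u huU g) with h | h | h | h
        · exact absurd ((conj_eq_one_iff.mp h) ▸ Subgroup.one_mem _) hunc
        · exact Or.inl h
        · exfalso
          have := congrArg (fun t => t ^ 2) h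
          rw [conj_pow, ← pow_mul, hu4] at this
          exact hu2 (conj_eq_one_iff.mp this)
        · exact Or.inr h
      set C := Subgroup.centralizer (U : Set H) with hCdef
      haveI : C.Characteristic := Subgroup.characteristic_centralizer
      have hmemC : ∀ g, g ∈ C ↔ g * u = u * g := by
        intro g
        rw [hCdef, Subgroup.mem_centralizer_iff]
        refine ⟨fun h => (h u huU).symm, fun h w hw => ?_⟩
        obtain ⟨k, rfl⟩ := hUz w hw
        exact ((show Commute g u from h).zpow_right k).eq.symm
      obtain ⟨g, hg⟩ : ∃ g, g ∉ C := by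
        by_contra hall
        push_neg at hall
        exact hunc (Subgroup.mem_center_iff.mpr fun x => (hmemC x).mp (hall x))
      have hginv : g * u * g⁻¹ = u⁻¹ := (hconj g).resolve_left fun h =>
        hg ((hmemC g).mpr (mul_inv_eq_iff_eq_mul.mp h))
      have hcoset : ∀ x, x ∈ C ∨ ∃ y ∈ C, x = y * g := by
        intro x
        rcases hconj x with h | h
        · exact Or.inl ((hmemC x).mpr (mul_inv_eq_iff_eq_mul.mp h))
        · refine Or.inr ⟨x * g⁻¹, (hmemC _).mpr ?_, by group⟩
          have h1 : g⁻¹ * u * g = u⁻¹ := by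
            have e := congrArg (fun t => g⁻¹ * t⁻¹ * g) hginv
            simp only [mul_inv_rev, inv_inv] at e
            rw [show g⁻¹ * (g * (u⁻¹ * g⁻¹)) * g = u⁻¹ by group] at e
            exact e.symm
          calc x * g⁻¹ * u = x * (g⁻¹ * u * g) * g⁻¹ := by group
            _ = x * u⁻¹ * g⁻¹ := by rw [h1]
            _ = (x * u * x⁻¹)⁻¹ * x * g⁻¹ := by group
            _ = u * (x * g⁻¹) := by rw [h]; group
      -- induction applies to `C`
      obtain ⟨e, heC, hee, hCsq⟩ : ∃ e ∈ Subgroup.center ↥C, e * e = 1 ∧
          ∀ x : ↥C, x ^ 2 = 1 ∨ x ^ 2 = e := by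
        refine ih (Nat.card ↥C) ?_ ↥C rfl (hH.to_subgroup C) (fun A hA hAc => ?_)
          (fun x => Subtype.ext (h4 x))
        · rw [← hn]
          refine lt_of_le_of_ne (Nat.card_le_card_of_injective _ Subtype.val_injective) fun h => hg ?_
          rw [(Subgroup.card_eq_iff_eq_top C).mp h]; trivial
        · haveI := hA
          haveI : (A.map C.subtype).Characteristic := Cfsg.Agent.Lib.Cores.characteristic_of_map_le
            fun φ => by
              rintro _ ⟨_, ⟨a, ha, rfl⟩, rfl⟩
              have hC' : C.map φ.toMonoidHom = C :=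
                Subgroup.characteristic_iff_map_eq.mp inferInstance φ
              let ψ : ↥C ≃* ↥C := (φ.subgroupMap C).trans (MulEquiv.subgroupCongr hC')
              exact ⟨ψ a, (Subgroup.characteristic_iff_map_eq.mp hA ψ).le ⟨a, ha, rfl⟩, rfl⟩
          haveI : IsMulCommutative ↥(A.map C.subtype) := by
            refine ⟨⟨?_⟩⟩
            rintro ⟨_, a, ha, rfl⟩ ⟨_, b, hb, rfl⟩
            exact Subtype.ext (congrArg (fun t : ↥A => ((t : ↥C) : H))
              (hAc.is_comm.comm (⟨a, ha⟩ : ↥A) ⟨b, hb⟩))
          haveI := hcyc (A.map C.subtype) inferInstance inferInstance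
          exact isCyclic_of_surjective _
            (A.equivMapOfInjective C.subtype C.subtype_injective).symm.surjective
      have huC : u ∈ C := (hmemC u).mpr rfl
      have he : (e : H) = u ^ 2 := by
        rcases hCsq ⟨u, huC⟩ with h | h
        · exact absurd (congrArg Subtype.val h) hu2
        · exact (congrArg Subtype.val h).symm
      -- squares and commutators of `C`
      have hu2c : u ^ 2 ∈ Subgroup.center H := by
        rw [Subgroup.mem_center_iff]
        intro x
        rcases hconj x with h | h <;> have := congrArg (fun t => t ^ 2) h <;> simp only [conj_pow] at this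
        · exact mul_inv_eq_iff_eq_mul.mp this
        · rw [inv_pow, inv_eq_of_mul_eq_one_right (show u ^ 2 * u ^ 2 = 1 by rw [← pow_add]; exact hu4)] at this
          exact mul_inv_eq_iff_eq_mul.mp this
      set E := Subgroup.zpowers (u ^ 2)
      have hsqE : ∀ x ∈ C, x ^ 2 ∈ E := by
        intro x hx
        rcases hCsq ⟨x, hx⟩ with h | h
        · rw [show x ^ 2 = 1 from congrArg Subtype.val h]; exact E.one_mem
        · rw [show x ^ 2 = u ^ 2 from (congrArg Subtype.val h).trans he]; exact Subgroup.mem_zpowers _
      have hEc : E ≤ Subgroup.center H := Subgroup.zpowers_le.mpr hu2c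
      haveI : E.Normal := ⟨fun w hw x => by
        rw [Subgroup.mem_center_iff.mp (hEc hw) x, mul_inv_cancel_right]; exact hw⟩
      have hcomE : ∀ x ∈ C, ∀ y ∈ C, x * y * x⁻¹ * y⁻¹ ∈ E := by
        intro x hx y hy
        rw [comm_eq_sq]
        refine E.mul_mem (E.mul_mem (hsqE _ (C.mul_mem hx hy)) ?_) (E.inv_mem (hsqE y hy))
        have := Subgroup.mem_center_iff.mp (hEc (E.inv_mem (hsqE x hx))) y⁻¹
        rw [this, inv_mul_cancel_right]
        exact E.inv_mem (hsqE x hx)
      -- the map `x ↦ g x g⁻¹ x⁻¹` modulo `E` reaches `u`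
      set f := QuotientGroup.mk' E with hf
      have fcomm : ∀ x ∈ C, ∀ y ∈ C, f x * f y = f y * f x := by
        intro x hx y hy
        have : f (x * y * x⁻¹ * y⁻¹) = 1 := (QuotientGroup.eq_one_iff _).mpr (hcomE x hx y hy)
        rw [map_mul, map_mul, map_mul, map_inv, map_inv, mul_inv_eq_one, mul_inv_eq_iff_eq_mul] at this
        exact this
      have hgC : ∀ x ∈ C, g * x * g⁻¹ ∈ C := fun x hx =>
        (inferInstance : C.Normal).conj_mem x hx g
      let dm : ↥C →* H ⧸ E :=
        { toFun := fun x => f (g * x * g⁻¹) * (f x)⁻¹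
          map_one' := by simp
          map_mul' := fun x y => by
            have e1 : f (g * ((x : H) * y) * g⁻¹) = f (g * x * g⁻¹) * f (g * y * g⁻¹) := by
              rw [← map_mul]; congr 1; group
            show f (g * ((x : H) * y) * g⁻¹) * (f ((x : H) * y))⁻¹ = _
            rw [e1, map_mul f (x : H) y, mul_inv_rev]
            have k1 : Commute (f (g * y * g⁻¹) * (f y)⁻¹) ((f x)⁻¹) := by
              refine (Commute.mul_left ?_ ?_).inv_right
              · exact fcomm _ (hgC y y.2) x x.2
              · exact ((show Commute (f (x : H)) (f y) from fcomm x x.2 y y.2).inv_right).symm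
            calc f (g * x * g⁻¹) * f (g * y * g⁻¹) * ((f y)⁻¹ * (f x)⁻¹)
                = f (g * x * g⁻¹) * (f (g * y * g⁻¹) * (f y)⁻¹ * (f x)⁻¹) := by group
              _ = f (g * x * g⁻¹) * ((f x)⁻¹ * (f (g * y * g⁻¹) * (f y)⁻¹)) := by rw [k1.eq]
              _ = _ := by group }
      set K := dm.range.comap f with hK
      have hKn : K.Normal := by
        refine ⟨fun k hk x => ?_⟩
        obtain ⟨y, hy⟩ := hk
        have hky : f k = f (g * y * g⁻¹) * (f (y : H))⁻¹ := hy.symm
        rcases hcoset x with hx | ⟨x', hx', rfl⟩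
        · refine ⟨y, ?_⟩
          show f (g * y * g⁻¹) * (f (y : H))⁻¹ = f (x * k * x⁻¹)
          rw [map_mul f (x * k), map_mul f x, map_inv, hky]
          have k1 : Commute (f x) (f (g * y * g⁻¹) * (f (y : H))⁻¹) :=
            (show Commute (f x) _ from fcomm x hx _ (hgC y y.2)).mul_right
              (show Commute (f x) (f (y : H)) from fcomm x hx _ y.2).inv_right
          rw [k1.eq, mul_inv_cancel_right]
        · refine ⟨⟨_, hgC y y.2⟩, ?_⟩
          show f (g * (g * y * g⁻¹) * g⁻¹) * (f (g * y * g⁻¹))⁻¹ = f (x' * g * k * (x' * g)⁻¹)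
          have e1 : f (g * k * g⁻¹) = f (g * (g * y * g⁻¹) * g⁻¹) * (f (g * y * g⁻¹))⁻¹ := by
            calc f (g * k * g⁻¹) = f g * f k * (f g)⁻¹ := by simp
              _ = _ := by rw [hky]; simp [mul_assoc]
          have k1 : Commute (f x') (f (g * k * g⁻¹)) := by
            rw [e1]
            exact (show Commute (f x') _ from fcomm x' hx' _ (hgC _ (hgC y y.2))).mul_right
              (show Commute (f x') _ from fcomm x' hx' _ (hgC y y.2)).inv_right
          rw [show x' * g * k * (x' * g)⁻¹ = x' * (g * k * g⁻¹) * x'⁻¹ by group,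
            map_mul f (x' * (g * k * g⁻¹)), map_mul f x', map_inv, k1.eq, mul_inv_cancel_right, e1]
      have hDK : commutator H ≤ K := by
        haveI := hKn
        have hgx : ∀ x ∈ C, g * x * g⁻¹ * x⁻¹ ∈ K := fun x hx => ⟨⟨x, hx⟩, by
          show f (g * x * g⁻¹) * (f x)⁻¹ = _; simp⟩
        set π := QuotientGroup.mk' K
        have p1 : ∀ x ∈ C, π g * π x = π x * π g := fun x hx => by
          have : π (g * x * g⁻¹ * x⁻¹) = 1 := (QuotientGroup.eq_one_iff _).mpr (hgx x hx)
          rw [map_mul, map_mul, map_mul, map_inv, map_inv, mul_inv_eq_one, mul_inv_eq_iff_eq_mul] at this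
          exact this
        have p2 : ∀ x ∈ C, ∀ y ∈ C, π x * π y = π y * π x := fun x hx y hy => by
          have : π (x * y * x⁻¹ * y⁻¹) = 1 := (QuotientGroup.eq_one_iff _).mpr (by
            refine ⟨1, ?_⟩
            rw [map_one, eq_comm]
            exact (QuotientGroup.eq_one_iff _).mpr (hcomE x hx y hy))
          rw [map_mul, map_mul, map_mul, map_inv, map_inv, mul_inv_eq_one, mul_inv_eq_iff_eq_mul] at this
          exact this
        have p3 : ∀ a b : H, Commute (π a) (π b) := by
          intro a b
          have hb : ∀ x ∈ C, Commute (π x) (π b) := fun x hx => by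
            rcases hcoset b with h | ⟨y, hy, rfl⟩
            · exact p2 x hx b h
            · rw [map_mul]; exact (show Commute _ _ from p2 x hx y hy).mul_right (p1 x hx).symm
          have hgb : Commute (π g) (π b) := by
            rcases hcoset b with h | ⟨y, hy, rfl⟩
            · exact p1 b h
            · rw [map_mul]; exact (show Commute _ _ from p1 y hy).mul_right (Commute.refl _)
          rcases hcoset a with h | ⟨x, hx, rfl⟩
          · exact hb a h
          · rw [map_mul]; exact (hb x hx).mul_left hgb
        rw [commutator_def, Subgroup.commutator_le]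
        intro a _ b _
        apply (QuotientGroup.eq_one_iff _).mp
        show π _ = 1
        rw [map_commutatorElement, commutatorElement_eq_one_iff_commute]
        exact p3 a b
      obtain ⟨⟨x, hx⟩, hxu⟩ := hDK huU.1
      replace hxu : f (g * x * g⁻¹) * (f x)⁻¹ = f u := hxu
      set v := g * x * g⁻¹ * x⁻¹ with hv
      have hvu : u⁻¹ * v ∈ E := by
        apply (QuotientGroup.eq_one_iff _).mp
        show f (u⁻¹ * v) = 1
        rw [map_mul, hv, map_mul, map_inv, map_inv, hxu, inv_mul_cancel]
      have hvcases : v = u ∨ v = u⁻¹ := by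
        obtain ⟨k, hk⟩ := Subgroup.mem_zpowers_iff.mp hvu
        have hvU : v ∈ U := by
          rw [show v = u * (u ^ 2) ^ k by rw [hk]; group]
          exact U.mul_mem huU (U.zpow_mem (U.pow_mem huU 2) k)
        rcases hpow v hvU with h | h | h | h
        · exfalso
          rw [h, mul_one] at hk
          have := congrArg (fun t => t ^ 2) hk
          rw [← zpow_natCast, ← zpow_mul, mul_comm, zpow_mul, zpow_natCast, ← pow_mul, hu4, one_zpow] at this
          rw [inv_pow] at this
          exact hu2 (inv_eq_one.mp this.symm)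
        · exact Or.inl h
        · exfalso
          rw [h, show u⁻¹ * u ^ 2 = u by rw [pow_two]; group] at hk
          have := congrArg (fun t => t ^ 2) hk
          rw [← zpow_natCast, ← zpow_mul, mul_comm, zpow_mul, zpow_natCast, ← pow_mul, hu4, one_zpow] at this
          exact hu2 this.symm
        · exact Or.inr h
      have hgv : g * v * g⁻¹ = v⁻¹ := by
        rcases hvcases with h | h <;> rw [h]
        · exact hginv
        · rw [← conj_inv, hginv]
      have hxv : Commute x v := by
        rcases hvcases with h | h <;> rw [h]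
        · exact (hmemC x).mp hx
        · exact (show Commute x u from (hmemC x).mp hx).inv_right
      have hgx : g * x * g⁻¹ = v * x := by rw [hv]; group
      have hg2x : Commute (g ^ 2) x := by
        show g ^ 2 * x = x * g ^ 2
        calc g ^ 2 * x = g * (g * x * g⁻¹) * g⁻¹ * g ^ 2 := by simp only [pow_two]; group
          _ = g * (v * x) * g⁻¹ * g ^ 2 := by rw [hgx]
          _ = (g * v * g⁻¹) * (g * x * g⁻¹) * g ^ 2 := by group
          _ = v⁻¹ * (v * x) * g ^ 2 := by rw [hgv, hgx]
          _ = x * g ^ 2 := by group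
      have hg2v : Commute (g ^ 2) v := by
        show g ^ 2 * v = v * g ^ 2
        calc g ^ 2 * v = g * (g * v * g⁻¹) * g⁻¹ * g ^ 2 := by simp only [pow_two]; group
          _ = g * v⁻¹ * g⁻¹ * g ^ 2 := by rw [hgv]
          _ = (g * v * g⁻¹)⁻¹ * g ^ 2 := by group
          _ = v * g ^ 2 := by rw [hgv, inv_inv]
      have e1 : (x * g) ^ 2 = v * (x ^ 2 * g ^ 2) := by
        calc (x * g) ^ 2 = x * (g * x * g⁻¹) * g ^ 2 := by simp only [pow_two]; group
          _ = x * v * x * g ^ 2 := by rw [hgx]; group
          _ = v * (x ^ 2 * g ^ 2) := by rw [hxv.eq]; simp only [pow_two]; group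
      have e2 : (x * g) ^ 4 = v ^ 2 := by
        rw [show (4 : ℕ) = 2 * 2 from rfl, pow_mul, e1,
          (((hxv.pow_left 2).symm).mul_right hg2v.symm).mul_pow,
          ((hg2x.symm).pow_left 2).mul_pow, ← pow_mul, ← pow_mul, h4, h4, mul_one, mul_one]
      rw [h4] at e2
      rcases hvcases with h | h <;> rw [h] at e2
      · exact hu2 e2.symm
      · rw [inv_pow] at e2; exact hu2 (inv_eq_one.mp e2.symm)


end Cfsg.Agent.Lib.Classification
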