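import Mathlib
import Cfsg.Agent.Lib.Classification.Basic

set_option autoImplicit false

namespace Cfsg.Agent.Lib.Classification

/-- An automorphism of 2-power order of a finite abelian 2-group is trivial as soon as
everything fixed by its square is fixed by itself. -/
theorem mulAut_two_fixed_trivial {A : Type*} [CommGroup A] [Finite A]
    (hA : IsPGroup 2 A) (t : MulAut A) (ht : ∃ k : ℕ, orderOf t = 2 ^ k)
    (hC : ∀ a : A, t (t a) = a → t a = a) : ∀ a : A, t a = a := by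
  let f : A →* A := t.toMonoidHom / MonoidHom.id A
  have hf : ∀ a, f a = t a / a := fun a => rfl
  by_contra hne
  obtain ⟨a₀, ha₀⟩ := not_forall.mp hne
  -- the 2-group `⟨t⟩` acts on the image of `f`
  let W : Subgroup A := f.range
  have hWne : W ≠ ⊥ := by
    intro h
    have : f a₀ ∈ W := ⟨a₀, rfl⟩
    rw [h, Subgroup.mem_bot, hf, div_eq_one] at this
    exact ha₀ this
  -- elements of order dividing two of the image of `f`
  let V : Subgroup A := W ⊓ (powMonoidHom 2 : A →* A).ker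
  have hVne : 2 ∣ Nat.card V := by
    obtain ⟨k, hk⟩ := (hA.to_subgroup W).exists_card_eq
    have hk0 : k ≠ 0 := by
      rintro rfl
      exact hWne (Subgroup.eq_bot_of_card_eq W (by simpa using hk))
    obtain ⟨x, hx⟩ := exists_prime_orderOf_dvd_card' (G := W) 2 (hk ▸ dvd_pow_self 2 hk0)
    have hxV : (x : A) ∈ V := ⟨x.2, by
      show (x : A) ^ 2 = 1
      rw [← SubmonoidClass.coe_pow, ← hx, pow_orderOf_eq_one]; rfl⟩
    have := orderOf_dvd_natCard (⟨x, hxV⟩ : V)
    rwa [← Subgroup.orderOf_coe, Subgroup.orderOf_coe x, hx] at this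
  have hV : ∀ v ∈ V, t v ∈ V := by
    rintro v ⟨⟨a, rfl⟩, hv⟩
    refine ⟨⟨t a, ?_⟩, ?_⟩
    · simp [hf, map_div]
    · show (t (f a)) ^ 2 = 1
      rw [← map_pow, show (f a) ^ 2 = 1 from hv, map_one]
  let Z : Subgroup (MulAut A) := Subgroup.zpowers t
  have hZ : IsPGroup 2 Z := by
    obtain ⟨k, hk⟩ := ht
    exact IsPGroup.of_card (n := k) (by rw [Nat.card_zpowers, hk])
  have hstab : ∀ g ∈ Z, ∀ v ∈ V, g v ∈ V := by
    intro g hg
    have hfin : IsOfFinOrder t := by
      obtain ⟨k, hk⟩ := ht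
      exact orderOf_pos_iff.mp (hk ▸ pow_pos two_pos k)
    obtain ⟨n, rfl⟩ : ∃ n : ℕ, t ^ n = g := by
      rw [← IsOfFinOrder.mem_powers_iff_mem_zpowers hfin] at hg
      exact hg
    clear hg
    induction n with
    | zero => intro v hv; simpa using hv
    | succ n ih =>
      intro v hv
      rw [pow_succ, MulAut.mul_apply]
      exact ih _ (hV v hv)
  letI : MulAction Z V :=
    { smul := fun g v => ⟨(g : MulAut A) v, hstab g g.2 v v.2⟩
      one_smul := fun v => Subtype.ext (by rfl)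
      mul_smul := fun g h v => Subtype.ext (by rfl) }
  have hone : (1 : V) ∈ MulAction.fixedPoints Z V := fun g => Subtype.ext (by
    show (g : MulAut A) 1 = 1
    exact map_one _)
  obtain ⟨b, hb, hb1⟩ := hZ.exists_fixed_point_of_prime_dvd_card_of_fixed_point V hVne hone
  obtain ⟨⟨a, ha⟩, hb2⟩ := b.2
  have htb : t (b : A) = b := congrArg Subtype.val (hb ⟨t, Subgroup.mem_zpowers t⟩)
  have h2 : t (t a) = a := by
    have e : t (b : A) * (b : A) = 1 := by
      rw [htb, ← pow_two]; exact hb2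
    rw [← ha, hf, map_div] at e
    rw [div_mul_div_cancel] at e
    exact div_eq_one.mp e
  apply hb1
  refine Subtype.ext ?_
  rw [Subgroup.coe_one, ← ha, hf, hC a h2, div_self']

variable {G : Type*} [Group G]

/-- TI pair lemma: a `p`-group `B` normalizing a trivially intersecting `p`-group `A` of no larger
order, and meeting its conjugates under `A` trivially or entirely, centralizes `A`. -/
theorem commute_of_ti_normalizing [Finite G] (p : ℕ) [Fact p.Prime] {A B : Subgroup G}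
    (hA : IsPGroup p ↥A) (hB : IsPGroup p ↥B)
    (hBti : ∀ g ∈ A, B.map (MulAut.conj g).toMonoidHom = B ∨
      B.map (MulAut.conj g).toMonoidHom ⊓ B = ⊥)
    (hle : Nat.card ↥A ≤ Nat.card ↥B) (hAB : A ⊓ B = ⊥)
    (hN : B ≤ Subgroup.normalizer (A : Set G)) : ⁅A, B⁆ = ⊥ := by
  rcases eq_or_ne B ⊥ with rfl | hBne
  · simp
  let U : Subgroup G := A ⊔ B
  have hU : IsPGroup p ↥U := by
    show IsPGroup p ↥(A ⊔ B)
    exact hA.to_sup_of_normal_left' hB hN
  let C : Subgroup G := A ⊓ Subgroup.normalizer (B : Set G)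
  have hC : ∀ c ∈ C, ∀ b ∈ B, c * b = b * c := by
    intro c hc b hb
    have h1 : c * b * c⁻¹ * b⁻¹ ∈ A ⊓ B := by
      constructor
      · have := (Subgroup.mem_set_normalizer_iff.mp (hN hb) c⁻¹).mp (A.inv_mem hc.1)
        simpa [mul_assoc] using A.mul_mem hc.1 this
      · exact B.mul_mem ((Subgroup.mem_set_normalizer_iff.mp hc.2 b).mp hb) (B.inv_mem hb)
    rw [hAB, Subgroup.mem_bot] at h1
    calc c * b = (c * b * c⁻¹ * b⁻¹) * (b * c) := by group
      _ = b * c := by rw [h1, one_mul]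
  by_cases hCA : A ≤ C
  · exact commutator_eq_bot_iff_commute.mpr fun a ha b hb => hC a (hCA ha) b hb
  exfalso
  let N : Subgroup G := C ⊔ B
  have hNU : N ≤ U := sup_le (inf_le_left.trans le_sup_left) le_sup_right
  have hNmem : ∀ n ∈ N, ∃ c ∈ C, ∃ b ∈ B, n = c * b := by
    intro n hn
    have : n ∈ ((C ⊔ B : Subgroup G) : Set G) := hn
    rw [Subgroup.coe_mul_of_left_le_normalizer_right C B inf_le_right] at this
    obtain ⟨c, hc, b, hb, rfl⟩ := this
    exact ⟨c, hc, b, hb, rfl⟩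
  have hlt : N.subgroupOf U < ⊤ := by
    rw [lt_top_iff_ne_top, ne_eq, Subgroup.subgroupOf_eq_top]
    intro h
    apply hCA
    intro a ha
    obtain ⟨c, hc, b, hb, hab⟩ := hNmem a (h (le_sup_left (b := B) ha))
    have hbA : b ∈ A ⊓ B := ⟨by
      have := A.mul_mem (A.inv_mem hc.1) (hab ▸ ha)
      simpa using this, hb⟩
    rw [hAB, Subgroup.mem_bot] at hbA
    rw [hab, hbA, mul_one]
    exact hc
  haveI := hU.isNilpotent
  obtain ⟨y, hyn, hy⟩ := SetLike.exists_of_lt (Group.normalizerCondition_of_isNilpotent _ hlt)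
  obtain ⟨b₀, hb₀, a₀, ha₀, hya⟩ : ∃ b₀ ∈ B, ∃ a₀ ∈ A, (y : G) = b₀ * a₀ := by
    have : (y : G) ∈ ((B ⊔ A : Subgroup G) : Set G) := by rw [sup_comm]; exact y.2
    rw [Subgroup.coe_mul_of_left_le_normalizer_right B A hN] at this
    obtain ⟨b₀, hb₀, a₀, ha₀, h⟩ := this
    exact ⟨b₀, hb₀, a₀, ha₀, h.symm⟩
  have haN : ∀ n ∈ N, a₀ * n * a₀⁻¹ ∈ N := by
    intro n hn
    have h1 := (Subgroup.mem_set_normalizer_iff.mp hyn ⟨n, hNU hn⟩).mp hn
    rw [SetLike.mem_coe, Subgroup.mem_subgroupOf] at h1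
    push_cast at h1
    have h2 := N.mul_mem (N.mul_mem (N.inv_mem (le_sup_right (a := C) hb₀)) h1)
      (le_sup_right (a := C) hb₀)
    rw [hya] at h2
    simpa [mul_assoc] using h2
  have hne : B.map (MulAut.conj a₀).toMonoidHom ≠ B := by
    intro h
    apply hy
    rw [Subgroup.mem_subgroupOf, hya]
    exact N.mul_mem (le_sup_right (a := C) hb₀)
      (le_sup_left (b := B) ⟨ha₀, map_conj_eq_iff_mem_normalizer.mp h⟩)
  have hti := (hBti a₀ ha₀).resolve_left hne
  -- the conjugate of `B` projects injectively into `C`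
  have hsub : ∀ b ∈ B, ∃ c ∈ C, ∃ b' ∈ B, a₀ * b * a₀⁻¹ = c * b' := fun b hb =>
    hNmem _ (haN b (le_sup_right (a := C) hb))
  choose c hc b' hb' heq using hsub
  have hinj : Function.Injective (fun b : B => (⟨c b b.2, hc b b.2⟩ : C)) := by
    intro b₁ b₂ h12
    have hcc : c b₁ b₁.2 = c b₂ b₂.2 := congrArg Subtype.val h12
    have hm : a₀ * ((b₁ : G)⁻¹ * b₂) * a₀⁻¹ ∈ B.map (MulAut.conj a₀).toMonoidHom ⊓ B := by
      refine ⟨mul_mem_map_conj (B.mul_mem (B.inv_mem b₁.2) b₂.2), ?_⟩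
      have e : a₀ * ((b₁ : G)⁻¹ * b₂) * a₀⁻¹ = (a₀ * b₁ * a₀⁻¹)⁻¹ * (a₀ * b₂ * a₀⁻¹) := by group
      rw [e, heq b₁ b₁.2, heq b₂ b₂.2, hcc]
      simpa [mul_assoc] using B.mul_mem (B.inv_mem (hb' b₁ b₁.2)) (hb' b₂ b₂.2)
    rw [hti, Subgroup.mem_bot, conj_eq_one_iff, inv_mul_eq_one] at hm
    exact Subtype.ext hm
  have h3 : Nat.card B ≤ Nat.card C := Nat.card_le_card_of_injective _ hinj
  have h4 : C = A := Subgroup.eq_of_le_of_card_ge inf_le_left (hle.trans h3)
  exact hCA h4.ge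

end Cfsg.Agent.Lib.Classification
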